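import Groth.Agent.L11.HilbProj.GrAlg
import Groth.Agent.L18.FiniteProjective

/-!
# The Plücker algebra of the Hilbert functor of points of a finite morphism
-/

set_option autoImplicit false
set_option linter.style.haveILetI false
set_option linter.unusedSectionVars false
set_option backward.isDefEq.respectTransparency false

noncomputable section

universe u

open CategoryTheory CategoryTheory.Limits AlgebraicGeometry TopologicalSpace Opposite

namespace Groth.L11.HilbProj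

open Groth.L18.FinProj (ρ ρ_app)

variable {X S : Scheme.{u}} (f : X ⟶ S)

/-- Functions on the preimage as an algebra over the functions on the open. -/
@[reducible] def algB (U : S.Opens) : Algebra Γ(S, U) Γ(X, f ⁻¹ᵁ U) := (f.app U).hom.toAlgebra

attribute [local instance] algB

/-- Restriction as an algebra. -/
@[reducible] def algR {U V : S.Opens} (h : V ≤ U) : Algebra Γ(S, U) Γ(S, V) :=
  (S.presheaf.map (homOfLE h).op).hom.toAlgebra

theorem ρ_algebraMap {U V : S.Opens} (h : V ≤ U) (r : Γ(S, U)) :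
    ρ f h (algebraMap Γ(S, U) Γ(X, f ⁻¹ᵁ U) r) =
      algebraMap Γ(S, V) Γ(X, f ⁻¹ᵁ V) (letI := algR h; algebraMap Γ(S, U) Γ(S, V) r) :=
  ρ_app f h r

theorem ρ_comp {U V W : S.Opens} (h : V ≤ U) (h' : W ≤ V) (b : Γ(X, f ⁻¹ᵁ U)) :
    ρ f h' (ρ f h b) = ρ f (h'.trans h) b :=
  (ConcreteCategory.congr_hom (X.presheaf.map_comp (homOfLE (f.preimage_mono h)).op
    (homOfLE (f.preimage_mono h')).op) b).symm

theorem ρ_id {U : S.Opens} (b : Γ(X, f ⁻¹ᵁ U)) : ρ f (le_refl U) b = b := by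
  show (X.presheaf.map (𝟙 _)).hom b = b
  rw [CategoryTheory.Functor.map_id]
  rfl

section Loc

variable [IsAffineHom f] {U : S.Opens} (hU : IsAffineOpen U) {r : Γ(S, U)} {W : S.Opens}
  (hW : S.basicOpen r = W) (hWU : W ≤ U)

include hU hW in
theorem exists_eq_pow_smul (b' : Γ(X, f ⁻¹ᵁ W)) :
    ∃ (k : ℕ) (b : Γ(X, f ⁻¹ᵁ U)), ρ f hWU b = (letI := algR hWU; algebraMap Γ(S, U) Γ(S, W) r) ^ k • b' := by
  subst hW
  letI ia : Algebra Γ(X, f ⁻¹ᵁ U) Γ(X, f ⁻¹ᵁ S.basicOpen r) := (ρ f hWU).toAlgebra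
  haveI : IsLocalization.Away ((f.app U).hom r) Γ(X, f ⁻¹ᵁ S.basicOpen r) :=
    RelSpec.QCAlg.isQC_pushforward f U hU r
  obtain ⟨⟨b, _, k, rfl⟩, hk⟩ := IsLocalization.surj (Submonoid.powers ((f.app U).hom r)) b'
  refine ⟨k, b, ?_⟩
  rw [Algebra.smul_def, map_pow, mul_comm]
  refine (show ρ f hWU b = b' * ρ f hWU ((f.app U).hom r ^ k) from hk.symm).trans ?_
  rw [map_pow]
  exact congrArg (b' * · ^ k) (ρ_app f hWU r)

include hU hW in
theorem exists_pow_smul_eq_zero {b : Γ(X, f ⁻¹ᵁ U)} (hb : ρ f hWU b = 0) : ∃ k : ℕ, r ^ k • b = 0 := by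
  subst hW
  letI ia : Algebra Γ(X, f ⁻¹ᵁ U) Γ(X, f ⁻¹ᵁ S.basicOpen r) := (ρ f hWU).toAlgebra
  haveI : IsLocalization.Away ((f.app U).hom r) Γ(X, f ⁻¹ᵁ S.basicOpen r) :=
    RelSpec.QCAlg.isQC_pushforward f U hU r
  obtain ⟨⟨_, k, rfl⟩, hk⟩ := (IsLocalization.map_eq_zero_iff (Submonoid.powers ((f.app U).hom r))
    Γ(X, f ⁻¹ᵁ S.basicOpen r) b).1 hb
  exact ⟨k, by rw [Algebra.smul_def, map_pow]; exact hk⟩

end Loc

/-- Restricted functions span the functions on the preimage of a smaller affine open. -/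
theorem span_ρ_eq_top [IsAffineHom f] {U V : S.Opens} (hU : IsAffineOpen U) (hV : IsAffineOpen V) (h : V ≤ U) :
    Submodule.span Γ(S, V) (Set.range (ρ f h)) = ⊤ := by
  refine eq_top_iff.2 fun b' _ => ?_
  let M : Submodule Γ(S, V) Γ(X, f ⁻¹ᵁ V) := Submodule.span Γ(S, V) (Set.range (ρ f h))
  let I : Ideal Γ(S, V) := M.comap (LinearMap.toSpanSingleton Γ(S, V) _ b')
  have hI : I = ⊤ := by
    rw [← Ideal.span_eq I, ← hV.self_le_iSup_basicOpen_iff]
    intro y hy
    obtain ⟨v, w, e, hyv⟩ := exists_basicOpen_le_affine_inter hV hU y ⟨hy, h hy⟩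
    letI := algR h
    let wV : Γ(S, V) := algebraMap Γ(S, U) Γ(S, V) w
    have hle : S.basicOpen v ≤ U := (S.basicOpen_le v).trans h
    obtain ⟨k, b, hb⟩ := exists_eq_pow_smul f hU e.symm hle (ρ f (S.basicOpen_le v) b')
    have h0 : ρ f (S.basicOpen_le v) (wV ^ k • b' - ρ f h b) = 0 := by
      rw [map_sub, ρ_comp, hb, sub_eq_zero, Algebra.smul_def, Algebra.smul_def, map_mul, map_pow, map_pow, map_pow]
      refine congrArg (· ^ k * _) ?_
      refine (ρ_app f (S.basicOpen_le v) wV).trans (congrArg ((f.app (S.basicOpen v)).hom) ?_)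
      exact (ConcreteCategory.congr_hom (S.presheaf.map_comp (homOfLE h).op (homOfLE (S.basicOpen_le v)).op) w).symm
    obtain ⟨m, hm⟩ := exists_pow_smul_eq_zero f hV rfl (S.basicOpen_le v) h0
    have hmem : v ^ (m + 1) * wV ^ (k + 1) ∈ I := by
      show (v ^ (m + 1) * wV ^ (k + 1)) • b' ∈ M
      have h1 : (v ^ m * wV ^ k) • b' = v ^ m • ρ f h b := by
        rw [smul_sub, sub_eq_zero] at hm
        rw [mul_smul]; exact hm
      rw [show v ^ (m + 1) * wV ^ (k + 1) = (v * wV) * (v ^ m * wV ^ k) by ring, mul_smul, h1]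
      exact M.smul_mem _ (M.smul_mem _ (Submodule.subset_span ⟨b, rfl⟩))
    refine Opens.mem_iSup.mpr ⟨⟨_, hmem⟩, ?_⟩
    show y ∈ S.basicOpen (v ^ (m + 1) * wV ^ (k + 1))
    rw [Scheme.basicOpen_mul, S.basicOpen_pow _ (Nat.succ_pos _), S.basicOpen_pow _ (Nat.succ_pos _)]
    refine ⟨hyv, ?_⟩
    show y ∈ S.basicOpen (S.presheaf.map (homOfLE h).op w)
    rw [Scheme.basicOpen_res]
    exact ⟨hy, e ▸ hyv⟩
  have h1 : (1 : Γ(S, V)) • b' ∈ M := show (1 : Γ(S, V)) ∈ I from hI ▸ Submodule.mem_top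
  rwa [one_smul] at h1

variable [IsFinite f] (d : ℕ)

instance finiteB (U : S.affineOpens) : Module.Finite Γ(S, U.1) Γ(X, f ⁻¹ᵁ U.1) := f.finite_app U.1 U.2

theorem module_finite {U : S.Opens} (hU : IsAffineOpen U) : Module.Finite Γ(S, U) Γ(X, f ⁻¹ᵁ U) :=
  f.finite_app U hU

/-- Restriction of the Plücker algebras. -/
def grRes {U V : S.Opens} (hU : IsAffineOpen U) (hV : IsAffineOpen V) (h : V ≤ U) :
    GR Γ(S, U) Γ(X, f ⁻¹ᵁ U) d →+* GR Γ(S, V) Γ(X, f ⁻¹ᵁ V) d :=
  letI := algR h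
  haveI := module_finite f hU
  resGR (ρ f h) (ρ_algebraMap f h) (span_ρ_eq_top f hU hV h)

variable {d} in
theorem grRes_algebraMap {U V : S.Opens} (hU : IsAffineOpen U) (hV : IsAffineOpen V) (h : V ≤ U) (r : Γ(S, U)) :
    grRes f d hU hV h (algebraMap _ _ r) = algebraMap _ _ ((S.presheaf.map (homOfLE h).op).hom r) := by
  letI := algR h
  haveI := module_finite f hU
  exact resGR_algebraMap (ρ f h) (ρ_algebraMap f h) (span_ρ_eq_top f hU hV h) r

variable {d} in
theorem grRes_el {U V : S.Opens} (hU : IsAffineOpen U) (hV : IsAffineOpen V) (h : V ≤ U)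
    (b : Fin d → Γ(X, f ⁻¹ᵁ U)) : grRes f d hU hV h (el b) = el (ρ f h ∘ b) := by
  letI := algR h
  haveI := module_finite f hU
  exact resGR_el (ρ f h) (ρ_algebraMap f h) (span_ρ_eq_top f hU hV h) b

/-- The values of the Plücker algebra. -/
def data : Groth.L18.AlgExt.Data S where
  obj U _ := CommRingCat.of (GR Γ(S, U) Γ(X, f ⁻¹ᵁ U) d)
  res hU hV h := CommRingCat.ofHom (grRes f d hU hV h)
  res_id {U} hU := CommRingCat.hom_ext (ringHom_ext
    (fun r => (grRes_algebraMap f hU hU le_rfl r).trans (congrArg (algebraMap Γ(S, U) (GR Γ(S, U) Γ(X, f ⁻¹ᵁ U) d))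
      (ConcreteCategory.congr_hom (S.presheaf.map_id (op U)) r)))
    (fun b => (grRes_el f hU hU le_rfl b).trans (congrArg el (funext fun i => ρ_id f (b i)))))
  res_comp {U V W} hU hV hW h h' := CommRingCat.hom_ext (ringHom_ext
    (fun r => by
      simp only [CommRingCat.hom_comp, RingHom.comp_apply, CommRingCat.hom_ofHom]
      rw [grRes_algebraMap, grRes_algebraMap, grRes_algebraMap]
      exact congrArg (algebraMap Γ(S, W) (GR Γ(S, W) Γ(X, f ⁻¹ᵁ W) d))
        (ConcreteCategory.congr_hom (S.presheaf.map_comp (homOfLE h).op (homOfLE h').op) r).symm)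
    (fun b => by
      simp only [CommRingCat.hom_comp, RingHom.comp_apply, CommRingCat.hom_ofHom]
      rw [grRes_el, grRes_el, grRes_el]
      exact congrArg el (funext fun i => ρ_comp f h h' (b i))))
  str U _ := CommRingCat.ofHom (algebraMap Γ(S, U) (GR Γ(S, U) Γ(X, f ⁻¹ᵁ U) d))
  str_res hU hV h := CommRingCat.hom_ext (RingHom.ext fun r => grRes_algebraMap f hU hV h r)
  isLoc U hU r := by
    letI := algR (S.basicOpen_le r)
    haveI := module_finite f hU
    exact isLocalization_resGR (ρ f (S.basicOpen_le r)) (ρ_algebraMap f (S.basicOpen_le r))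
      (span_ρ_eq_top f hU (hU.basicOpen r) (S.basicOpen_le r)) r (hU.isLocalization_basicOpen r)
      (fun b' => exists_eq_pow_smul f hU rfl (S.basicOpen_le r) b')
      (fun b hb => exists_pow_smul_eq_zero f hU rfl (S.basicOpen_le r) hb)

/-- The comparison with the Plücker algebra of the sections. -/
def η (U : S.Opens) (hU : IsAffineOpen U) :
    (data f d).alg.presheaf.obj (op U) ≃+* GR Γ(S, U) Γ(X, f ⁻¹ᵁ U) d :=
  (data f d).evEquiv U hU

variable {d}

theorem η_res {U V : S.Opens} (hU : IsAffineOpen U) (hV : IsAffineOpen V) (h : V ≤ U)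
    (a : (data f d).alg.presheaf.obj (op U)) :
    η f d V hV (((data f d).alg.presheaf.map (homOfLE h).op).hom a) = grRes f d hU hV h (η f d U hU a) :=
  (data f d).ev_res hU hV h a

theorem η_str (U : S.Opens) (hU : IsAffineOpen U) (a : Γ(S, U)) :
    η f d U hU (((data f d).alg.str.app (op U)).hom a) = algebraMap _ _ a :=
  ConcreteCategory.congr_hom ((data f d).str_ev U hU) a

variable (d) in
/-- The graded Plücker algebra. -/
def grAlg : RelProj.QCGrAlg S where
  toQCAlg := (data f d).alg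
  deg U hU n := (deg Γ(S, U) Γ(X, f ⁻¹ᵁ U) d n).comap (η f d U hU).toAddMonoidHom
  graded U hU := (Groth.L18.SymSheaf.nonempty_gradedRing_comap (η f d U hU) (deg Γ(S, U) Γ(X, f ⁻¹ᵁ U) d) _
    fun _ _ => Iff.rfl).some
  map_mem {U V} hU hV i {n x} hx := by
    show η f d V hV _ ∈ deg Γ(S, V) Γ(X, f ⁻¹ᵁ V) d n
    rw [η_res f hU hV i x]
    letI := algR i
    haveI := module_finite f hU
    exact resGR_mem_deg (ρ f i) (ρ_algebraMap f i) (span_ρ_eq_top f hU hV i) hx
  str_mem U hU r := by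
    show η f d U hU _ ∈ deg Γ(S, U) Γ(X, f ⁻¹ᵁ U) d 0
    rw [η_str]
    exact algebraMap_mem_deg r

/-- The comparison on the graded algebra. -/
def ηg (U : S.Opens) (hU : IsAffineOpen U) :
    (grAlg f d).presheaf.obj (op U) ≃+* GR Γ(S, U) Γ(X, f ⁻¹ᵁ U) d :=
  η f d U hU

theorem ηg_res {U V : S.Opens} (hU : IsAffineOpen U) (hV : IsAffineOpen V) (h : V ≤ U)
    (a : (grAlg f d).presheaf.obj (op U)) :
    ηg f V hV (((grAlg f d).presheaf.map (homOfLE h).op).hom a) = grRes f d hU hV h (ηg f U hU a) :=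
  η_res f hU hV h a

theorem ηg_str (U : S.Opens) (hU : IsAffineOpen U) (a : Γ(S, U)) :
    ηg (d := d) f U hU (((grAlg f d).str.app (op U)).hom a) = algebraMap _ _ a :=
  η_str f U hU a

theorem mem_grAlg_deg {U : S.Opens} {hU : IsAffineOpen U} {n : ℕ} {x : (grAlg f d).presheaf.obj (op U)} :
    x ∈ (grAlg f d).deg U hU n ↔ ηg f U hU x ∈ deg Γ(S, U) Γ(X, f ⁻¹ᵁ U) d n := Iff.rfl

theorem isGenDegOne : (grAlg f d).IsGenDegOne := by
  intro U hU
  refine eq_top_iff.2 fun x _ => ?_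
  let Sg : Subring (GR Γ(S, U) Γ(X, f ⁻¹ᵁ U) d) := Subring.comap (ηg f U hU).symm.toRingHom
    (Subring.closure (((grAlg f d).deg U hU 0 : Set ((grAlg f d).presheaf.obj (op U))) ∪
      ((grAlg f d).deg U hU 1 : Set _)))
  have h : Sg = ⊤ := by
    refine eq_top_iff.2 ((closure_deg_eq_top).ge.trans (Subring.closure_le.2 ?_))
    rintro y (hy | hy)
    · exact Subring.subset_closure (Or.inl (mem_grAlg_deg f |>.2 (by
        show ηg f U hU ((ηg f U hU).symm y) ∈ _
        rwa [RingEquiv.apply_symm_apply])))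
    · exact Subring.subset_closure (Or.inr (mem_grAlg_deg f |>.2 (by
        show ηg f U hU ((ηg f U hU).symm y) ∈ _
        rwa [RingEquiv.apply_symm_apply])))
  have := (h ▸ Subring.mem_top (ηg f U hU x) : ηg f U hU x ∈ Sg)
  rwa [Subring.mem_comap, RingEquiv.toRingHom_eq_coe, RingEquiv.coe_toRingHom, RingEquiv.symm_apply_apply] at this

theorem isFTDeg : (grAlg f d).IsFTDeg 1 := by
  classical
  intro U hU
  haveI := module_finite f hU
  obtain ⟨N, g, hg⟩ := Module.Finite.exists_fin (R := Γ(S, U)) (M := Γ(X, f ⁻¹ᵁ U))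
  let g' : ULift.{u} (Fin N) → Γ(X, f ⁻¹ᵁ U) := fun k => g k.down
  have hg' : Submodule.span Γ(S, U) (Set.range g') = ⊤ := by
    rw [show Set.range g' = Set.range g from Function.Surjective.range_comp ULift.down_surjective g]; exact hg
  let t : (Fin d → ULift.{u} (Fin N)) → (grAlg f d).presheaf.obj (op U) := fun K => (ηg f U hU).symm (el (g' ∘ K))
  refine ⟨Finset.univ.image t, fun x hx => ?_, fun x hx => ?_⟩
  · obtain ⟨K, -, rfl⟩ := Finset.mem_image.1 (Finset.mem_coe.1 hx)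
    exact (mem_grAlg_deg f).2 (by rw [RingEquiv.apply_symm_apply]; exact el_mem_deg _)
  · obtain ⟨c, hc⟩ := exists_coeff_deg_one g' hg' ((mem_grAlg_deg f).1 hx)
    refine ⟨fun y => ∑ K ∈ Finset.univ.filter (fun K => t K = y), c K, (ηg f U hU).injective ?_⟩
    rw [hc, map_sum]
    simp only [map_mul, ηg_str, map_sum, Finset.sum_mul]
    rw [← Finset.sum_fiberwise_of_maps_to (g := t) (t := Finset.univ.image t)
      (fun K hK => Finset.mem_image_of_mem t hK)]
    refine Finset.sum_congr rfl fun y _ => Finset.sum_congr rfl fun K hK => ?_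
    rw [← (Finset.mem_filter.1 hK).2, RingEquiv.apply_symm_apply]

end Groth.L11.HilbProj
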