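import Groth.Agent.L11.HilbProj.Restrict
import Groth.Agent.L18.RelTilde.Frames

/-!
# The Hilbert scheme of points of a finite morphism is the relative `Proj` of the Plücker algebra
-/

set_option autoImplicit false
set_option linter.style.haveILetI false
set_option linter.unusedSectionVars false
set_option backward.isDefEq.respectTransparency false
set_option backward.isDefEq.respectTransparency.types false

noncomputable section

universe u

open CategoryTheory CategoryTheory.Limits AlgebraicGeometry TopologicalSpace Opposite HomogeneousLocalization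
open Groth.L02.Hilb Groth.L13.BU Groth.L25.HomScheme
open Groth.L18.FinProj (ρ)
open scoped TensorProduct

namespace Groth.L11.HilbProj

attribute [local instance] algB

variable {X S : Scheme.{u}} {f : X ⟶ S} [IsFinite f] {d : ℕ}

/-- A point of a scheme over `S` lies under the chart of an affine open of `S`. -/
theorem exists_chart {T : Over S} (Z : HilbD.Obj f d T) (t : T.left) :
    ∃ (V : S.Opens) (hV : IsAffineOpen V), T.hom t ∈ Set.range (mkChart f hV (d := d) fun _ => 0).i ∧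
      ∀ w : Z.1.subscheme, (Z.1.subschemeι ≫ PicF.XTproj f T) w = t →
        (Z.1.subschemeι ≫ pullback.fst f T.hom) w ∈ Set.range (mkChart f hV (d := d) fun _ => 0).j := by
  obtain ⟨V, hV, htV, -⟩ := exists_isAffineOpen_mem_and_subset (x := T.hom t) (U := (⊤ : S.Opens)) trivial
  refine ⟨V, hV, ?_, fun w hw => ?_⟩
  · show T.hom t ∈ Set.range hV.fromSpec
    rw [hV.range_fromSpec]; exact htV
  · show _ ∈ Set.range (hV.preimage f).fromSpec
    rw [(hV.preimage f).range_fromSpec]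
    show f _ ∈ V
    rw [← Scheme.Hom.comp_apply, Category.assoc, pullback.condition, ← Category.assoc, Scheme.Hom.comp_apply]
    exact (congrArg T.hom hw).symm ▸ htV

theorem representable : HilbD.Representable f d :=
  representable_of_charts (fun V : S.affineOpens => mkChart f V.2 fun _ => 0) fun _ x y => by
    obtain ⟨V, hV, h1, h2⟩ := exists_chart x y
    exact ⟨⟨V, hV⟩, h1, h2⟩

/-- A family near any point comes from coordinates. -/
theorem exists_pres {T : Over S} (Z : HilbD.Obj f d T) (t : T.left) :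
    ∃ (C : Type u) (_ : CommRing C) (k : Spec (CommRingCat.of C) ⟶ T.left) (U : S.Opens) (hU : IsAffineOpen U)
      (π : Pres f hU (k ≫ T.hom) d), IsOpenImmersion k ∧ t ∈ Set.range k ∧
      π.fam = HilbD.pull f (Over.homMk k rfl : Over.mk (k ≫ T.hom) ⟶ T) Z.1 := by
  obtain ⟨V, hV, hy, hfib⟩ := exists_chart Z t
  let c₀ : Chart f d := mkChart f hV fun _ => 0
  obtain ⟨A, hA, hAlg, e, he, hye, hr⟩ := c₀.exists_affine_nbhd Z t hy hfib
  obtain ⟨q, hq⟩ := hye
  obtain ⟨K, hfin, hproj, hrank, -, hK⟩ := c₀.exists_coord _ (isFinLocFreeOfDeg_pull f e Z.1 Z.2) hr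
  haveI := hfin; haveI := hproj
  obtain ⟨s, hs⟩ := exists_sections (K := K) q (hrank q)
  obtain ⟨T', g, hg, hmem, h, hh⟩ := (c₀.setS s).exists_chart_nbhd Z e hr q hK hs
  obtain ⟨t', ht'⟩ := hq ▸ hmem
  obtain ⟨Ω, hΩ, htΩ, -⟩ := exists_isAffineOpen_mem_and_subset (x := t') (U := (⊤ : T'.left.Opens)) trivial
  let χ : ChartRing Γ(S, V) Γ(X, f ⁻¹ᵁ V) s →+* Γ(T'.left, Ω) := (Spec.preimage (hΩ.fromSpec ≫ h.left)).hom
  have hχ : Spec.map (CommRingCat.ofHom χ) = hΩ.fromSpec ≫ h.left := Spec.map_preimage _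
  let σ := χ.comp (algebraMap Γ(S, V) (ChartRing Γ(S, V) Γ(X, f ⁻¹ᵁ V) s))
  letI := σ.toAlgebra
  let χ' : ChartRing Γ(S, V) Γ(X, f ⁻¹ᵁ V) s →ₐ[Γ(S, V)] Γ(T'.left, Ω) := { χ with commutes' := fun _ => rfl }
  have hσ : Spec.map (CommRingCat.ofHom σ) ≫ hV.fromSpec = (hΩ.fromSpec ≫ g.left) ≫ T.hom := by
    rw [Category.assoc, Over.w g, ← Over.w h, ← Category.assoc, ← hχ, CommRingCat.ofHom_comp, Spec.map_comp,
      Category.assoc]
    rfl
  refine ⟨_, inferInstance, hΩ.fromSpec ≫ g.left, V, hV, ⟨σ, hσ, s, (univCoord _ _ s).push χ'⟩, inferInstance,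
    ?_, ?_⟩
  · obtain ⟨v, hv⟩ : t' ∈ Set.range hΩ.fromSpec := by rw [hΩ.range_fromSpec]; exact htΩ
    exact ⟨v, by rw [Scheme.Hom.comp_apply, hv, ht']⟩
  · let j : Over.mk ((hΩ.fromSpec ≫ g.left) ≫ T.hom) ⟶ T' := Over.homMk hΩ.fromSpec (by
      show hΩ.fromSpec ≫ T'.hom = _
      rw [Category.assoc, Over.w g]
      rfl)
    show HilbD.pull f _ ((mkChart f hV s).famIdeal _) = _
    rw [← Chart.pull_univ (mkChart f hV s) χ', ← pull_comp,
      show (Over.homMk (hΩ.fromSpec ≫ g.left) rfl : _ ⟶ T) = j ≫ g from rfl, pull_comp f j g]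
    refine Eq.trans ?_ (congrArg (HilbD.pull f j) hh)
    rw [← pull_comp]
    refine congrArg (fun m => HilbD.pull f m _) (Over.OverMorphism.ext ?_)
    exact (Category.id_comp _).trans hχ

namespace Pres

variable {U : S.Opens} {hU : IsAffineOpen U} {C : Type u} [CommRing C] {a : Spec (CommRingCat.of C) ⟶ S}

theorem ext' {π π' : Pres f hU a d} (hs : π.s = π'.s)
    (hc : ∀ b j, (letI := π.σ.toAlgebra; π.x.c b j) = (letI := π'.σ.toAlgebra; π'.x.c b j)) : π = π' := by
  obtain ⟨σ, hσ, s, x⟩ := π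
  obtain ⟨σ', hσ', s', x'⟩ := π'
  obtain rfl : σ = σ' :=
    congrArg CommRingCat.Hom.hom (Spec.map_injective ((cancel_mono hU.fromSpec).1 (hσ.trans hσ'.symm)))
  obtain rfl : s = s' := hs
  letI := σ.toAlgebra
  obtain rfl : x = x' := Coord.ext' hc
  rfl

theorem F_el (π : Pres f hU a d) (b : Fin d → Γ(X, f ⁻¹ᵁ U)) :
    π.F ((ηg f U hU).symm (el b)) = (letI := π.σ.toAlgebra; lam π.x b) := by
  letI := π.σ.toAlgebra
  show evCoord π.x (ηg f U hU ((ηg f U hU).symm _)) = _
  rw [RingEquiv.apply_symm_apply, evCoord_el]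

/-- The family of coordinates lies in the Hilbert functor. -/
def obj (π : Pres f hU a d) : HilbD.Obj f d (Over.mk a) :=
  letI := π.σ.toAlgebra
  ⟨π.fam, isFinLocFreeOfDeg_pull f π.toOver _ ((mkChart f hU π.s).isFinLocFreeOfDeg_famIdeal π.x)⟩

end Pres

section Universal

variable {U : S.Opens} (hU : IsAffineOpen U) (s : Fin d → Γ(X, f ⁻¹ᵁ U))

/-- The structure morphism of a chart. -/
abbrev univA : Spec (CommRingCat.of (ChartRing Γ(S, U) Γ(X, f ⁻¹ᵁ U) s)) ⟶ S :=
  Spec.map (CommRingCat.ofHom (algebraMap Γ(S, U) (ChartRing Γ(S, U) Γ(X, f ⁻¹ᵁ U) s))) ≫ hU.fromSpec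

/-- The universal coordinates over an affine open. -/
def univPres : Pres f hU (univA hU s) d where
  σ := algebraMap Γ(S, U) (ChartRing Γ(S, U) Γ(X, f ⁻¹ᵁ U) s)
  hσ := rfl
  s := s
  x :=
    let c : Γ(X, f ⁻¹ᵁ U) → Fin d → ChartRing Γ(S, U) Γ(X, f ⁻¹ᵁ U) s :=
      fun b => (univCoord Γ(S, U) Γ(X, f ⁻¹ᵁ U) s).c b
    have hadd : ∀ b b', c (b + b') = c b + c b' := map_add (univCoord Γ(S, U) Γ(X, f ⁻¹ᵁ U) s).c
    have hsmul : ∀ (r : Γ(S, U)) (b : Γ(X, f ⁻¹ᵁ U)) (j : Fin d),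
        c (r • b) j = algebraMap Γ(S, U) (ChartRing Γ(S, U) Γ(X, f ⁻¹ᵁ U) s) r * c b j := fun r b j =>
      by show (univCoord Γ(S, U) Γ(X, f ⁻¹ᵁ U) s).c (r • b) j = _
         rw [LinearMap.map_smul, Pi.smul_apply, Algebra.smul_def]
    have hb : ∀ i j, c (s i) j = if i = j then 1 else 0 := (univCoord Γ(S, U) Γ(X, f ⁻¹ᵁ U) s).basis
    have hm : ∀ b b' j, c (b * b') j = ∑ i, c b i * c (b' * s i) j := (univCoord Γ(S, U) Γ(X, f ⁻¹ᵁ U) s).mul
    letI alg : Algebra Γ(S, U) (ChartRing Γ(S, U) Γ(X, f ⁻¹ᵁ U) s) :=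
      (algebraMap Γ(S, U) (ChartRing Γ(S, U) Γ(X, f ⁻¹ᵁ U) s)).toAlgebra
    letI : Module Γ(S, U) (ChartRing Γ(S, U) Γ(X, f ⁻¹ᵁ U) s) := alg.toModule
    { c :=
        { toFun := c
          map_add' := hadd
          map_smul' := fun r b => funext fun j => (hsmul r b j).trans (Algebra.smul_def r (c b j)).symm }
      basis := hb
      mul := hm }

theorem univPres_F : (univPres hU s).F =
    (evCoord (univCoord Γ(S, U) Γ(X, f ⁻¹ᵁ U) s)).toRingHom.comp (ηg f U hU).toRingHom := by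
  have h : (univPres hU s).F.comp (ηg f U hU).symm.toRingHom =
      (evCoord (univCoord Γ(S, U) Γ(X, f ⁻¹ᵁ U) s)).toRingHom := ringHom_ext (fun r => ?_) fun b => ?_
  · refine RingHom.ext fun z => ?_
    have := RingHom.congr_fun h (ηg f U hU z)
    rwa [RingHom.comp_apply, RingEquiv.toRingHom_eq_coe, RingEquiv.coe_toRingHom, RingEquiv.symm_apply_apply] at this
  · show (univPres hU s).F ((ηg f U hU).symm (algebraMap _ _ r)) = evCoord _ (algebraMap _ _ r)
    rw [← ηg_str f U hU, RingEquiv.symm_apply_apply, Pres.F_str, ηg_str f U hU, AlgHom.commutes]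
    rfl
  · exact (Pres.F_el _ b).trans (Eq.trans rfl (evCoord_el (univCoord Γ(S, U) Γ(X, f ⁻¹ᵁ U) s) b).symm)

/-- Every affine point comes from the universal one. -/
theorem exists_eq_push {C : Type u} [CommRing C] {a : Spec (CommRingCat.of C) ⟶ S} (π : Pres f hU a d) :
    ∃ (χ : ChartRing Γ(S, U) Γ(X, f ⁻¹ᵁ U) π.s →+* C) (h : Spec.map (CommRingCat.ofHom χ) ≫ univA hU π.s = a),
      π = (univPres hU π.s).push χ h := by
  letI := π.σ.toAlgebra
  obtain ⟨χ, hχ⟩ := exists_push_univ π.x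
  refine ⟨χ.toRingHom, ?_, Pres.ext' rfl fun b j => ?_⟩
  · rw [univA, ← Category.assoc, ← Spec.map_comp]
    exact (congrArg (fun g : Γ(S, U) →+* C => Spec.map (CommRingCat.ofHom g) ≫ hU.fromSpec) χ.comp_algebraMap).trans
      π.hσ
  · exact (congrArg (fun x : Coord _ _ _ C => x.c b j) hχ).symm

variable {P : Scheme.{u}} {p : P ⟶ S}
  {chart : ∀ (U : S.Opens) (hU : IsAffineOpen U), (((p ⁻¹ᵁ U : P.Opens) : Scheme.{u}) ≅ Proj ((grAlg f d).deg U hU))}

theorem bijective_evAway :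
    Function.Bijective (evAway (univPres hU s).F (univPres hU s).tEl_mem (univPres hU s).F_tEl) := by
  haveI := module_finite f hU
  have hη : ηg f U hU (univPres hU s).tEl = el s := RingEquiv.apply_symm_apply _ _
  constructor
  · refine (injective_iff_map_eq_zero _).2 fun z hz => ?_
    obtain ⟨n, x, hx, rfl⟩ := Away.mk_surjective ((grAlg f d).deg U hU) (univPres hU s).tEl_mem z
    rw [evAway_mk, univPres_F] at hz
    obtain ⟨M, hM⟩ := exists_pow_el_mul_eq_zero s ((mem_grAlg_deg f).1 hx) hz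
    apply val_injective
    rw [Away.val_mk, val_zero, Localization.mk_eq_mk', IsLocalization.mk'_eq_zero_iff]
    refine ⟨⟨(univPres hU s).tEl ^ M, M, rfl⟩, (ηg f U hU).injective ?_⟩
    rw [map_mul, map_pow, hη, map_zero]
    exact hM
  · intro z
    refine chartRing_mem s (RingHom.range (evAway (univPres hU s).F (univPres hU s).tEl_mem (univPres hU s).F_tEl))
      (fun r => ⟨fromZeroRingHom _ _ ⟨_, (grAlg f d).str_mem U hU r⟩, ?_⟩) (fun b => ?_) z
    · rw [evAway_fromZero]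
      exact (univPres hU s).F_str r
    · refine ⟨Away.mk _ (univPres hU s).tEl_mem 1 ((ηg f U hU).symm (el b)) ((mem_grAlg_deg f).2 ?_), ?_⟩
      · rw [RingEquiv.apply_symm_apply, one_smul]
        exact el_mem_deg _
      · rw [evAway_mk, univPres_F]
        exact congrArg (evCoord _) (RingEquiv.apply_symm_apply _ _)

theorem isOpenImmersion_univ_pt : IsOpenImmersion ((univPres hU s).pt chart) := by
  haveI : IsIso (CommRingCat.ofHom (evAway (univPres hU s).F (univPres hU s).tEl_mem (univPres hU s).F_tEl)) :=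
    (ConcreteCategory.isIso_iff_bijective _).2 (bijective_evAway hU s)
  unfold Pres.pt projPt
  infer_instance

theorem mem_range_univ_pt (y : Proj ((grAlg f d).deg U hU))
    (hy : (univPres hU s).tEl ∉ y.asHomogeneousIdeal) :
    RelProj.emb p chart U hU y ∈ Set.range ((univPres hU s).pt chart) := by
  haveI : IsIso (CommRingCat.ofHom (evAway (univPres hU s).F (univPres hU s).tEl_mem (univPres hU s).F_tEl)) :=
    (ConcreteCategory.isIso_iff_bijective _).2 (bijective_evAway hU s)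
  have h : y ∈ (Proj.awayι _ _ (univPres hU s).tEl_mem one_pos).opensRange := by
    rw [Proj.opensRange_awayι]
    exact hy
  obtain ⟨v, rfl⟩ := h
  obtain ⟨w, rfl⟩ := (Spec.map (CommRingCat.ofHom
    (evAway (univPres hU s).F (univPres hU s).tEl_mem (univPres hU s).F_tEl))).surjective v
  exact ⟨w, by simp only [Pres.pt, projPt, Scheme.Hom.comp_apply]⟩

end Universal

variable {P : Scheme.{u}} {p : P ⟶ S}
  {chart : ∀ (U : S.Opens) (hU : IsAffineOpen U), (((p ⁻¹ᵁ U : P.Opens) : Scheme.{u}) ≅ Proj ((grAlg f d).deg U hU))}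
  (hP : RelProj.IsRelProj (grAlg f d) p chart)

include hP in
/-- The standard pieces cover the relative `Proj`. -/
theorem exists_univ_pt (q : P) : ∃ (U : S.Opens) (hU : IsAffineOpen U) (s : Fin d → Γ(X, f ⁻¹ᵁ U)),
    q ∈ Set.range ((univPres hU s).pt chart) := by
  obtain ⟨U, hU, hqU, -⟩ := exists_isAffineOpen_mem_and_subset (x := p q) (U := (⊤ : S.Opens)) trivial
  obtain ⟨y, rfl⟩ : q ∈ Set.range (RelProj.emb p chart U hU) := by
    refine ⟨(chart U hU).hom ⟨q, hqU⟩, ?_⟩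
    rw [← Scheme.Hom.comp_apply, RelProj.emb, Iso.hom_inv_id_assoc]
    rfl
  obtain ⟨t, ht, hty⟩ := Groth.L18.RelTilde.irr_le_span (isGenDegOne f) U hU y
  haveI := module_finite f hU
  obtain ⟨N, g, hg⟩ := Module.Finite.exists_fin (R := Γ(S, U)) (M := Γ(X, f ⁻¹ᵁ U))
  let g' : ULift.{u} (Fin N) → Γ(X, f ⁻¹ᵁ U) := fun k => g k.down
  have hg' : Submodule.span Γ(S, U) (Set.range g') = ⊤ := by
    rw [show Set.range g' = Set.range g from Function.Surjective.range_comp ULift.down_surjective g]; exact hg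
  obtain ⟨c, hc⟩ := exists_coeff_deg_one g' hg' ((mem_grAlg_deg f).1 ht)
  by_contra hcon
  refine hty ?_
  have h1 : t = ∑ K, (ηg f U hU).symm (algebraMap _ _ (c K)) * (univPres hU (g' ∘ K)).tEl := by
    apply (ηg f U hU).injective
    rw [hc, map_sum]
    refine Finset.sum_congr rfl fun K _ => ?_
    rw [map_mul, Pres.tEl, RingEquiv.apply_symm_apply, RingEquiv.apply_symm_apply]
    rfl
  rw [h1]
  refine Ideal.sum_mem _ fun K _ => Ideal.mul_mem_left _ _ ?_
  by_contra hK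
  exact hcon ⟨U, hU, g' ∘ K, mem_range_univ_pt hU _ y hK⟩

section Compat

variable {U₁ U₂ : S.Opens} {hU₁ : IsAffineOpen U₁} {hU₂ : IsAffineOpen U₂} {C₁ C₂ : Type u} [CommRing C₁]
  [CommRing C₂] {a₁ : Spec (CommRingCat.of C₁) ⟶ S} {a₂ : Spec (CommRingCat.of C₂) ⟶ S}

include hP in
/-- Points and families determine each other over any test scheme. -/
theorem compat_iff (π₁ : Pres f hU₁ a₁ d) (π₂ : Pres f hU₂ a₂ d) {T : Over S} (k₁ : T ⟶ Over.mk a₁)
    (k₂ : T ⟶ Over.mk a₂) :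
    k₁.left ≫ π₁.pt chart = k₂.left ≫ π₂.pt chart ↔ HilbD.pull f k₁ π₁.fam = HilbD.pull f k₂ π₂.fam := by
  let g : ∀ n, Spec (CommRingCat.of Γ(T.left.affineCover.X n, ⊤)) ⟶ T.left := fun n =>
    (T.left.affineCover.X n).isoSpec.inv ≫ T.left.affineCover.f n
  let V : T.left.affineCover.I₀ → Over S := fun n => Over.mk (g n ≫ T.hom)
  let j : ∀ n, V n ⟶ T := fun n => Over.homMk (g n) rfl
  have hfam : IsOpenFamily V j := by
    refine ⟨fun n => inferInstanceAs (IsOpenImmersion (g n)), fun x => ?_⟩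
    obtain ⟨n, v, hv⟩ := T.left.affineCover.exists_eq x
    obtain ⟨v', rfl⟩ := (T.left.affineCover.X n).isoSpec.inv.surjective v
    exact ⟨n, v', (Scheme.Hom.comp_apply _ _ v').trans hv⟩
  have key : ∀ n, (g n ≫ k₁.left ≫ π₁.pt chart = g n ≫ k₂.left ≫ π₂.pt chart) ↔
      HilbD.pull f (j n) (HilbD.pull f k₁ π₁.fam) = HilbD.pull f (j n) (HilbD.pull f k₂ π₂.fam) := by
    intro n
    let χ₁ := (Spec.preimage (g n ≫ k₁.left)).hom
    let χ₂ := (Spec.preimage (g n ≫ k₂.left)).hom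
    have e₁ : Spec.map (CommRingCat.ofHom χ₁) = g n ≫ k₁.left := Spec.map_preimage _
    have e₂ : Spec.map (CommRingCat.ofHom χ₂) = g n ≫ k₂.left := Spec.map_preimage _
    have ha₁ : Spec.map (CommRingCat.ofHom χ₁) ≫ a₁ = g n ≫ T.hom := by
      rw [e₁, Category.assoc]; exact congrArg (g n ≫ ·) (Over.w k₁)
    have ha₂ : Spec.map (CommRingCat.ofHom χ₂) ≫ a₂ = g n ≫ T.hom := by
      rw [e₂, Category.assoc]; exact congrArg (g n ≫ ·) (Over.w k₂)
    have h := pt_eq_iff hP (π₁.push χ₁ ha₁) (π₂.push χ₂ ha₂)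
    rw [Pres.push_pt, Pres.push_pt, Pres.push_fam, Pres.push_fam,
      show (Over.homMk (Spec.map (CommRingCat.ofHom χ₁)) ha₁ : V n ⟶ Over.mk a₁) = j n ≫ k₁ from
        Over.OverMorphism.ext e₁,
      show (Over.homMk (Spec.map (CommRingCat.ofHom χ₂)) ha₂ : V n ⟶ Over.mk a₂) = j n ≫ k₂ from
        Over.OverMorphism.ext e₂, pull_comp, pull_comp, e₁, e₂, Category.assoc, Category.assoc] at h
    exact h
  constructor
  · intro h
    haveI : ∀ n, IsOpenImmersion (PicF.XTmap f (j n)) := fun n =>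
      MorphismProperty.of_isPullback (P := @IsOpenImmersion) (isPullback_XTmap f (j n)).flip (hfam.isOpenImmersion n)
    refine ext_of_openCover (fun n => PicF.XTmap f (j n)) (covers_XT hfam) fun n => ?_
    rw [← pull_eq, ← pull_eq]
    exact (key n).1 (congrArg (g n ≫ ·) h)
  · intro h
    exact Scheme.Cover.hom_ext hfam.cover _ _ fun n => (key n).2 (congrArg (HilbD.pull f (j n)) h)

end Compat

include hP in
/-- The representing object is the relative `Proj`. -/
theorem exists_iso (H : Over S) (Z : HilbD.Obj f d H) (hZ : HilbD.IsUniversal f d H Z) :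
    Nonempty (H ≅ Over.mk p) := by
  have huniq : ∀ {T : Over S} (g g' : T ⟶ H), HilbD.pull f g Z.1 = HilbD.pull f g' Z.1 → g = g' :=
    fun {T} g g' h => (hZ T ⟨HilbD.pull f g Z.1, isFinLocFreeOfDeg_pull f g _ Z.2⟩).unique rfl h.symm
  -- from `H` to `P`
  choose C hC k U hU π hk ht hfam using exists_pres Z
  let V : H.left → Over S := fun t => Over.mk (k t ≫ H.hom)
  let j : ∀ t, V t ⟶ H := fun t => Over.homMk (k t) rfl
  have hV : IsOpenFamily V j := ⟨hk, fun t => ⟨t, ht t⟩⟩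
  let aH : ∀ t, V t ⟶ Over.mk p := fun t => Over.homMk ((π t).pt chart) ((π t).pt_comp chart hP)
  obtain ⟨ψ, hψ⟩ := hV.exists_glue aH fun t t' T l l' hl => by
    refine Over.OverMorphism.ext ((compat_iff hP (π t) (π t') l l').2 ?_)
    rw [hfam, hfam, ← pull_comp, ← pull_comp]
    exact congrArg (fun m => HilbD.pull f m Z.1) hl
  have ψ_spec : ∀ {A : Type u} [CommRing A] {a : Spec (CommRingCat.of A) ⟶ S} {W : S.Opens} {hW : IsAffineOpen W}
      (τ : Pres f hW a d) (g : Over.mk a ⟶ H), HilbD.pull f g Z.1 = τ.fam →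
      g ≫ ψ = (Over.homMk (τ.pt chart) (τ.pt_comp chart hP) : Over.mk a ⟶ Over.mk p) := by
    intro A _ a W hW τ g hg
    let Q : H.left → Over S := fun t => Over.mk (pullback.fst g.left (k t) ≫ a)
    let l : ∀ t, Q t ⟶ Over.mk a := fun t => Over.homMk (pullback.fst g.left (k t)) rfl
    let l' : ∀ t, Q t ⟶ V t := fun t => Over.homMk (pullback.snd g.left (k t)) (by
      show pullback.snd g.left (k t) ≫ k t ≫ H.hom = pullback.fst g.left (k t) ≫ a
      rw [← pullback.condition_assoc, Over.w g]; rfl)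
    have hl : ∀ t, l t ≫ g = l' t ≫ j t := fun t => Over.OverMorphism.ext pullback.condition
    have hQ : IsOpenFamily Q l := by
      refine ⟨fun t => ?_, fun x => ?_⟩
      · haveI := hk t
        exact inferInstanceAs (IsOpenImmersion (pullback.fst g.left (k t)))
      · obtain ⟨w, hw⟩ := ht (g.left x)
        obtain ⟨z, hz, -⟩ := Scheme.Pullback.exists_preimage_pullback (f := g.left) (g := k (g.left x)) x w hw.symm
        exact ⟨g.left x, z, hz⟩
    refine hQ.hom_ext fun t => ?_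
    rw [reassoc_of% (hl t), hψ]
    refine Over.OverMorphism.ext ((compat_iff hP (π t) τ (l' t) (l t)).2 ?_)
    rw [hfam, ← hg, ← pull_comp, ← pull_comp, hl]
  -- from `P` to `H`
  let I := Σ U : S.affineOpens, Fin d → Γ(X, f ⁻¹ᵁ U.1)
  let W : I → Over S := fun i => Over.mk (univA i.1.2 i.2)
  let jP : ∀ i, W i ⟶ Over.mk p := fun i =>
    Over.homMk ((univPres i.1.2 i.2).pt chart) ((univPres i.1.2 i.2).pt_comp chart hP)
  have hW : IsOpenFamily W jP := by
    refine ⟨fun i => isOpenImmersion_univ_pt i.1.2 i.2, fun q => ?_⟩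
    obtain ⟨U, hU, s, hq⟩ := exists_univ_pt hP q
    exact ⟨⟨⟨U, hU⟩, s⟩, hq⟩
  choose aP haP using fun i : I => (hZ (W i) (univPres i.1.2 i.2).obj).exists
  obtain ⟨φ, hφ⟩ := hW.exists_glue aP fun i i' T l l' hl => by
    refine huniq _ _ ?_
    rw [pull_comp, pull_comp, haP, haP]
    exact (compat_iff hP (univPres i.1.2 i.2) (univPres i'.1.2 i'.2) l l').1 (congrArg (fun m => m.left) hl)
  have φ_spec : ∀ {A : Type u} [CommRing A] {a : Spec (CommRingCat.of A) ⟶ S} {V' : S.Opens} {hV' : IsAffineOpen V'}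
      (τ : Pres f hV' a d),
      HilbD.pull f ((Over.homMk (τ.pt chart) (τ.pt_comp chart hP) : Over.mk a ⟶ Over.mk p) ≫ φ) Z.1 = τ.fam := by
    intro A _ a V' hV' τ
    obtain ⟨χ, hχ, e⟩ := exists_eq_push hV' τ
    let i : I := ⟨⟨V', hV'⟩, τ.s⟩
    let m : Over.mk a ⟶ W i := Over.homMk (Spec.map (CommRingCat.ofHom χ)) hχ
    have h1 : (Over.homMk (τ.pt chart) (τ.pt_comp chart hP) : Over.mk a ⟶ Over.mk p) = m ≫ jP i :=
      Over.OverMorphism.ext ((congrArg (fun π' => Pres.pt π' chart) e).trans (Pres.push_pt _ chart _ _))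
    rw [h1, Category.assoc, hφ, pull_comp, haP]
    exact ((congrArg (fun π' => Pres.fam π') e).trans (Pres.push_fam _ _ _)).symm
  refine ⟨⟨ψ, φ, hV.hom_ext fun t => ?_, hW.hom_ext fun i => ?_⟩⟩
  · rw [Category.comp_id, reassoc_of% (hψ t)]
    exact huniq _ _ ((φ_spec (π t)).trans (hfam t))
  · rw [Category.comp_id, reassoc_of% (hφ i), ψ_spec (univPres i.1.2 i.2) (aP i) (haP i)]

end Groth.L11.HilbProj
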