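import Groth.Agent.L11.HilbProj.Pluck
import Mathlib.Algebra.Polynomial.AlgebraMap
import Mathlib.RingTheory.GradedAlgebra.Basic
import Mathlib.RingTheory.Localization.Away.Basic
import Mathlib.RingTheory.MvPolynomial.Tower

/-!
# The Plücker algebra of the Hilbert functor of points of an algebra

`GR R B d` is the graded ring of polynomial functions in the Plücker coordinates on the quotients of
rank `d` of `B`. Its degree-zero localisation at the coordinate of `s` is the coordinate ring of the
quotients with basis `s`.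
-/

set_option autoImplicit false
set_option linter.style.haveILetI false
set_option linter.unusedSectionVars false

universe u

open scoped TensorProduct DirectSum

noncomputable section

namespace Groth.L11.HilbProj

open Groth.L02.Hilb MvPolynomial

attribute [local instance] MvPolynomial.gradedAlgebra

variable (R B : Type u) [CommRing R] [CommRing B] [Algebra R B] (d : ℕ)

/-- Polynomials in the Plücker coordinates. -/
abbrev PR : Type u := MvPolynomial (Fin d → B) R

/-- All the Plücker coordinates on the chart of `s`, with a degree variable. -/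
def evT (s : Fin d → B) : PR R B d →ₐ[R] Polynomial (ChartRing R B s) :=
  aeval fun b => Polynomial.X * Polynomial.C (lam (univCoord R B s) b)

/-- The relations between the Plücker coordinates. -/
def J : Ideal (PR R B d) := ⨅ s : Fin d → B, RingHom.ker (evT R B d s).toRingHom

/-- The Plücker algebra. -/
abbrev GR : Type u := PR R B d ⧸ J R B d

/-- Its degree `n` part. -/
def deg (n : ℕ) : AddSubgroup (GR R B d) :=
  (homogeneousSubmodule (Fin d → B) R n).toAddSubgroup.map (Ideal.Quotient.mk (J R B d)).toAddMonoidHom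

variable {R B d}

/-- The Plücker coordinate of a tuple. -/
def el (b : Fin d → B) : GR R B d := Ideal.Quotient.mk _ (X b)

theorem mem_deg_iff {n : ℕ} {x : GR R B d} :
    x ∈ deg R B d n ↔ ∃ p : PR R B d, p.IsHomogeneous n ∧ Ideal.Quotient.mk _ p = x :=
  Iff.rfl

theorem el_mem_deg (b : Fin d → B) : el (R := R) b ∈ deg R B d 1 :=
  mem_deg_iff.2 ⟨X b, isHomogeneous_X R b, rfl⟩

theorem algebraMap_mem_deg (r : R) : algebraMap R (GR R B d) r ∈ deg R B d 0 :=
  mem_deg_iff.2 ⟨C r, isHomogeneous_C _ r, rfl⟩

theorem coeff_evT (s : Fin d → B) (p : PR R B d) (n : ℕ) :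
    (evT R B d s p).coeff n = aeval (fun b => lam (univCoord R B s) b) (homogeneousComponent n p) := by
  have key : ∀ m, evT R B d s (homogeneousComponent m p) =
      Polynomial.C (aeval (fun b => lam (univCoord R B s) b) (homogeneousComponent m p)) * Polynomial.X ^ m := by
    intro m
    refine (aeval_smul_of_isHomogeneous (A := Polynomial (ChartRing R B s)) (homogeneousComponent_isHomogeneous m p)
      Polynomial.X (fun b => Polynomial.C (lam (univCoord R B s) b))).trans ?_
    refine Polynomial.X_pow_mul.trans ?_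
    refine congrArg (· * _) ?_
    exact (comp_aeval_apply (f := fun b => lam (univCoord R B s) b)
      ((Polynomial.CAlgHom (R := ChartRing R B s)).restrictScalars R) (homogeneousComponent m p)).symm
  conv_lhs => rw [← sum_homogeneousComponent p, map_sum, Polynomial.finsetSum_coeff]
  simp only [key, Polynomial.coeff_C_mul_X_pow]
  rw [Finset.sum_ite_eq]
  split_ifs with h
  · rfl
  · rw [homogeneousComponent_eq_zero n p (by rw [Finset.mem_range] at h; omega), map_zero]

/-- Membership in the relations, on the universal coordinates. -/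
theorem mem_J_iff {p : PR R B d} :
    p ∈ J R B d ↔ ∀ (n : ℕ) (s : Fin d → B), aeval (fun b => lam (univCoord R B s) b) (homogeneousComponent n p) = 0 := by
  rw [J, Submodule.mem_iInf]
  refine ⟨fun h n s => ?_, fun h s => ?_⟩
  · rw [← coeff_evT, show evT R B d s p = 0 from h s, Polynomial.coeff_zero]
  · exact RingHom.mem_ker.2 (Polynomial.ext fun n => (coeff_evT s p n).trans ((h n s).trans (Polynomial.coeff_zero n).symm))

/-- The relations hold for all coordinates. -/
theorem aeval_component_eq_zero {p : PR R B d} (hp : p ∈ J R B d) (n : ℕ) {s : Fin d → B} {A : Type u} [CommRing A]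
    [Algebra R A] (x : Coord R B s A) : aeval (fun b => lam x b) (homogeneousComponent n p) = 0 := by
  obtain ⟨φ, rfl⟩ := exists_push_univ x
  simp only [lam_push]
  rw [← comp_aeval_apply (f := fun b => lam (univCoord R B s) b) φ, mem_J_iff.1 hp n s, map_zero]

theorem aeval_eq_zero_of_mem {p : PR R B d} (hp : p ∈ J R B d) {s : Fin d → B} {A : Type u} [CommRing A]
    [Algebra R A] (x : Coord R B s A) : aeval (fun b => lam x b) p = 0 := by
  rw [← sum_homogeneousComponent p, map_sum]
  exact Finset.sum_eq_zero fun n _ => aeval_component_eq_zero hp n x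

theorem mem_J_of_isHomogeneous {p : PR R B d} {n : ℕ} (hp : p.IsHomogeneous n)
    (h : ∀ s : Fin d → B, aeval (fun b => lam (univCoord R B s) b) p = 0) : p ∈ J R B d := by
  refine mem_J_iff.2 fun m s => ?_
  rw [homogeneousComponent_of_mem ((mem_homogeneousSubmodule n p).2 hp)]
  split_ifs
  · exact h s
  · exact map_zero _

theorem component_mem_J {p : PR R B d} (hp : p ∈ J R B d) (n : ℕ) : homogeneousComponent n p ∈ J R B d :=
  mem_J_of_isHomogeneous (homogeneousComponent_isHomogeneous n p) fun s => mem_J_iff.1 hp n s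

variable (R B d) in
theorem nonempty_gradedRing : Nonempty (GradedRing (deg R B d)) := by
  classical
  haveI : SetLike.GradedMonoid (deg R B d) :=
    { one_mem := mem_deg_iff.2 ⟨1, isHomogeneous_one _ _, map_one _⟩
      mul_mem := fun i j a b ha hb => by
        obtain ⟨x, hx, rfl⟩ := mem_deg_iff.1 ha
        obtain ⟨y, hy, rfl⟩ := mem_deg_iff.1 hb
        exact mem_deg_iff.2 ⟨x * y, hx.mul hy, map_mul _ x y⟩ }
  refine ⟨{ toDecomposition := DirectSum.IsInternal.chooseDecomposition (deg R B d) ⟨?_, fun y => ?_⟩ }⟩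
  · rw [injective_iff_map_eq_zero]
    intro w hw
    refine DFinsupp.ext fun k => Subtype.ext ?_
    choose x hx hxy using fun k => mem_deg_iff.1 (w k).2
    rw [DirectSum.coeAddMonoidHom_eq_dfinsuppSum, DFinsupp.sum] at hw
    by_cases hk : k ∈ w.support
    · have h0 : (∑ e ∈ w.support, x e) ∈ J R B d := by
        rw [← Ideal.Quotient.eq_zero_iff_mem, map_sum, Finset.sum_congr rfl fun e _ => hxy e]
        exact hw
      have h1 := component_mem_J h0 k
      rw [map_sum, Finset.sum_eq_single k
        (fun e _ he => by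
          rw [homogeneousComponent_of_mem ((mem_homogeneousSubmodule e _).2 (hx e)), if_neg (Ne.symm he)])
        (fun h => absurd hk h), homogeneousComponent_eq_self (hx k), ← Ideal.Quotient.eq_zero_iff_mem, hxy k] at h1
      exact h1
    · rw [DFinsupp.notMem_support_iff.mp hk]; rfl
  · obtain ⟨p, rfl⟩ := Ideal.Quotient.mk_surjective y
    refine ⟨∑ n ∈ Finset.range (p.totalDegree + 1), DirectSum.of (fun n => deg R B d n) n
      ⟨Ideal.Quotient.mk _ (homogeneousComponent n p),
        mem_deg_iff.2 ⟨_, homogeneousComponent_isHomogeneous n p, rfl⟩⟩, ?_⟩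
    rw [map_sum]
    simp only [DirectSum.coeAddMonoidHom_of]
    rw [← map_sum, sum_homogeneousComponent]

instance instGradedRing : GradedRing (deg R B d) := (nonempty_gradedRing R B d).some

/-- Induction over generators. -/
theorem closure_deg_eq_top :
    Subring.closure ((deg R B d 0 : Set (GR R B d)) ∪ (deg R B d 1 : Set (GR R B d))) = ⊤ := by
  refine eq_top_iff.2 fun y hy => ?_
  clear hy
  obtain ⟨p, rfl⟩ := Ideal.Quotient.mk_surjective y
  induction p using MvPolynomial.induction_on with
  | C r => exact Subring.subset_closure (Or.inl (algebraMap_mem_deg r))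
  | add p q hp hq => rw [map_add]; exact add_mem hp hq
  | mul_X p b hp => rw [map_mul]; exact mul_mem hp (Subring.subset_closure (Or.inr (el_mem_deg b)))

theorem ringHom_ext {T : Type*} [CommRing T] {f f' : GR R B d →+* T}
    (hC : ∀ r, f (algebraMap R _ r) = f' (algebraMap R _ r)) (hX : ∀ b, f (el b) = f' (el b)) : f = f' :=
  Ideal.Quotient.ringHom_ext (MvPolynomial.ringHom_ext hC hX)

theorem el_expand {N : Type u} [Fintype N] (g : N → B) (c : Fin d → N → R) :
    el (R := R) (fun i => ∑ k, c i k • g k) =
      ∑ K : Fin d → N, algebraMap R (GR R B d) (∏ i, c i (K i)) * el (g ∘ K) := by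
  classical
  have hmk : ∀ K : Fin d → N, algebraMap R (GR R B d) (∏ i, c i (K i)) * el (g ∘ K) =
      Ideal.Quotient.mk _ (C (∏ i, c i (K i)) * X (g ∘ K)) := fun K => by rw [map_mul]; rfl
  simp only [hmk]
  rw [el, ← map_sum, Ideal.Quotient.eq]
  refine mem_J_of_isHomogeneous (n := 1) ?_ fun s => ?_
  · exact (isHomogeneous_X R _).sub (IsHomogeneous.sum _ _ _ fun K _ => (isHomogeneous_X R _).C_mul _)
  · rw [map_sub, map_sum, aeval_X, lam_expand, sub_eq_zero]
    refine Finset.sum_congr rfl fun K _ => ?_
    rw [map_mul, aeval_C, aeval_X, Algebra.smul_def]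

/-- The degree-one part is spanned by the coordinates of tuples of generators. -/
theorem exists_coeff_deg_one {N : Type u} [Fintype N] (g : N → B) (hg : Submodule.span R (Set.range g) = ⊤)
    {x : GR R B d} (hx : x ∈ deg R B d 1) :
    ∃ c : (Fin d → N) → R, x = ∑ K : Fin d → N, algebraMap R (GR R B d) (c K) * el (g ∘ K) := by
  classical
  obtain ⟨p, hp, rfl⟩ := mem_deg_iff.1 hx
  have hp' : p ∈ Submodule.span R (Set.range (X : (Fin d → B) → PR R B d)) := by
    rw [← homogeneousSubmodule_one_eq_span_X]; exact hp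
  clear hp hx
  induction hp' using Submodule.span_induction with
  | mem y hy =>
    obtain ⟨b, rfl⟩ := hy
    choose c hc using fun i => (Submodule.mem_span_range_iff_exists_fun R).1
      (show b i ∈ Submodule.span R (Set.range g) from hg ▸ Submodule.mem_top)
    refine ⟨fun K => ∏ i, c i (K i), ?_⟩
    show el b = _
    rw [show el (R := R) b = el (fun i => ∑ k, c i k • g k) from congrArg el (funext fun i => (hc i).symm), el_expand]
  | zero => exact ⟨0, by simp⟩
  | add y z _ _ hy hz =>
    obtain ⟨c, hc⟩ := hy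
    obtain ⟨c', hc'⟩ := hz
    exact ⟨c + c', by simp [map_add, hc, hc', add_mul, Finset.sum_add_distrib]⟩
  | smul r y _ hy =>
    obtain ⟨c, hc⟩ := hy
    refine ⟨fun K => r * c K, ?_⟩
    rw [smul_eq_C_mul, map_mul, hc, Finset.mul_sum]
    refine Finset.sum_congr rfl fun K _ => ?_
    rw [map_mul, mul_assoc]
    rfl

/-! ### Evaluation at coordinates -/

section Eval

/-- Evaluation at the Plücker coordinates of a quotient. -/
def evCoord {s : Fin d → B} {A : Type u} [CommRing A] [Algebra R A] (x : Coord R B s A) : GR R B d →ₐ[R] A :=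
  Ideal.Quotient.liftₐ (J R B d) (aeval fun b => lam x b) fun _ hp => aeval_eq_zero_of_mem hp x

theorem evCoord_el {s : Fin d → B} {A : Type u} [CommRing A] [Algebra R A] (x : Coord R B s A) (b : Fin d → B) :
    evCoord x (el b) = lam x b := aeval_X _ _

theorem evCoord_self {s : Fin d → B} {A : Type u} [CommRing A] [Algebra R A] (x : Coord R B s A) :
    evCoord x (el s) = 1 := (evCoord_el x s).trans (lam_self _)

theorem evCoord_mk {s : Fin d → B} {A : Type u} [CommRing A] [Algebra R A] (x : Coord R B s A) (p : PR R B d) :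
    evCoord x (Ideal.Quotient.mk _ p) = aeval (fun b => lam x b) p := rfl

theorem evCoord_push {s : Fin d → B} {A A' : Type u} [CommRing A] [Algebra R A] [CommRing A'] [Algebra R A']
    (x : Coord R B s A) (φ : A →ₐ[R] A') (a : GR R B d) : evCoord (x.push φ) a = φ (evCoord x a) := by
  obtain ⟨p, rfl⟩ := Ideal.Quotient.mk_surjective a
  rw [evCoord_mk, evCoord_mk, comp_aeval_apply (f := fun b => lam x b) φ]
  simp only [lam_push]

/-- Changing the basis of the quotient scales the coordinates. -/
theorem evCoord_change {s t : Fin d → B} {A : Type u} [CommRing A] [Algebra R A] (x : Coord R B s A)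
    (y : Coord R B t A) (h : y.ideal = x.ideal) {n : ℕ} {a : GR R B d} (ha : a ∈ deg R B d n) :
    evCoord x a = lam x t ^ n * evCoord y a := by
  obtain ⟨p, hp, rfl⟩ := mem_deg_iff.1 ha
  rw [evCoord_mk, evCoord_mk, ← aeval_smul_of_isHomogeneous hp]
  exact congrArg (fun v : (Fin d → B) → A => aeval v p)
    (funext fun b => ((mul_comm _ _).trans (lam_mul_lam x y h b)).symm)

variable (s : Fin d → B)

theorem exists_pow_el_mul_eq_zero [Module.Finite R B] {n : ℕ} {a : GR R B d} (ha : a ∈ deg R B d n)
    (hz : evCoord (univCoord R B s) a = 0) : ∃ M : ℕ, el s ^ M * a = 0 := by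
  obtain ⟨p, hp, rfl⟩ := mem_deg_iff.1 ha
  rw [evCoord_mk] at hz
  obtain ⟨N, g, hg⟩ := Module.Finite.exists_fin (R := R) (M := B)
  let g' : ULift.{u} (Fin N) → B := fun k => g k.down
  have hg' : Submodule.span R (Set.range g') = ⊤ := by
    rw [show Set.range g' = Set.range g from Function.Surjective.range_comp ULift.down_surjective g]; exact hg
  have hy : ∀ (A' : Type u) (_ : CommRing A') (_ : Algebra R A') (y : Coord R B s A'),
      aeval (fun b => lam y b) p = 0 := fun A' _ _ y => by
    obtain ⟨φ, rfl⟩ := exists_push_univ y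
    simp only [lam_push]
    rw [← comp_aeval_apply (f := fun b => lam (univCoord R B s) b) φ, hz, map_zero]
  choose m hm using fun K : Fin d → ULift.{u} (Fin N) =>
    exists_pow_lam_mul_eq_zero hp (univCoord R B (g' ∘ K)) s hy
  let M := Finset.univ.sup m
  refine ⟨M, ?_⟩
  rw [el, ← map_pow, ← map_mul, Ideal.Quotient.eq_zero_iff_mem]
  have hhom : (X s ^ M * p : PR R B d).IsHomogeneous (1 * M + n) := ((isHomogeneous_X R s).pow M).mul hp
  refine mem_J_of_isHomogeneous hhom fun t => aeval_lam_eq_zero g' hg' hhom (fun K A' _ _ y => ?_) _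
  obtain ⟨φ, rfl⟩ := exists_push_univ y
  simp only [lam_push]
  rw [← comp_aeval_apply (f := fun b => lam (univCoord R B (g' ∘ K)) b) φ, map_mul (aeval _), map_pow (aeval _),
    aeval_X]
  obtain ⟨e, he⟩ := Nat.exists_eq_add_of_le (Finset.le_sup (f := m) (Finset.mem_univ K))
  rw [show M = m K + e from he, pow_add, mul_right_comm, hm K, zero_mul, map_zero]

theorem chartRing_mem (T : Subring (ChartRing R B s)) (h0 : ∀ r, algebraMap R _ r ∈ T)
    (h1 : ∀ b, evCoord (univCoord R B s) (el b) ∈ T) (z : ChartRing R B s) : z ∈ T := by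
  obtain ⟨q, rfl⟩ := Ideal.Quotient.mk_surjective z
  induction q using MvPolynomial.induction_on with
  | C r => exact h0 r
  | add p q hp hq => rw [map_add]; exact add_mem hp hq
  | mul_X p x hp =>
    rw [map_mul]
    refine mul_mem hp ?_
    have := h1 (Function.update s x.2 x.1)
    rw [evCoord_el, lam_update] at this
    exact this

end Eval

/-! ### Change of the base -/

section Base

variable {R' B' : Type u} [CommRing R'] [CommRing B'] [Algebra R' B'] [Algebra R R'] (φB : B →+* B')
  (hφ : ∀ r : R, φB (algebraMap R B r) = algebraMap R' B' (algebraMap R R' r))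

/-- Base change of the polynomials. -/
def mapP : PR R B d →+* PR R' B' d :=
  (rename (R := R') fun b : Fin d → B => φB ∘ b).toRingHom.comp (MvPolynomial.map (algebraMap R R'))

theorem mapP_C (r : R) : mapP φB (C r : PR R B d) = C (algebraMap R R' r) := by simp [mapP]

theorem mapP_X (b : Fin d → B) : mapP (R := R) (R' := R') φB (X b) = X (φB ∘ b) := by simp [mapP]

theorem isHomogeneous_mapP {p : PR R B d} {n : ℕ} (hp : p.IsHomogeneous n) :
    (mapP (R' := R') φB p).IsHomogeneous n := (hp.map (algebraMap R R')).rename_isHomogeneous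

theorem homogeneousComponent_mapP (p : PR R B d) (n : ℕ) :
    homogeneousComponent n (mapP (R' := R') φB p) = mapP φB (homogeneousComponent n p) := by
  conv_lhs => rw [← sum_homogeneousComponent p, map_sum (mapP (R' := R') φB), map_sum]
  rw [Finset.sum_congr rfl fun e _ => homogeneousComponent_of_mem
    ((mem_homogeneousSubmodule e _).2 (isHomogeneous_mapP φB (homogeneousComponent_isHomogeneous e p))),
    Finset.sum_ite_eq]
  split_ifs with h
  · rfl
  · rw [homogeneousComponent_eq_zero n p (by rw [Finset.mem_range] at h; omega), map_zero]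

theorem aeval_mapP {A : Type u} [CommRing A] [Algebra R A] [Algebra R' A] [IsScalarTower R R' A]
    (v : (Fin d → B') → A) (p : PR R B d) : aeval v (mapP (R' := R') φB p) = aeval (fun b => v (φB ∘ b)) p := by
  show aeval v (rename _ (MvPolynomial.map (algebraMap R R') p)) = _
  rw [aeval_rename, aeval_map_algebraMap]
  rfl

include hφ in
theorem span_comp_eq_top {N : Type u} (g : N → B) (hg : Submodule.span R (Set.range g) = ⊤)
    (hspan : Submodule.span R' (Set.range φB) = ⊤) : Submodule.span R' (Set.range (φB ∘ g)) = ⊤ := by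
  refine eq_top_iff.2 (hspan.ge.trans (Submodule.span_le.2 ?_))
  rintro _ ⟨b, rfl⟩
  have hb : b ∈ Submodule.span R (Set.range g) := hg ▸ Submodule.mem_top
  induction hb using Submodule.span_induction with
  | mem y hy => obtain ⟨k, rfl⟩ := hy; exact Submodule.subset_span ⟨k, rfl⟩
  | zero => rw [map_zero]; exact zero_mem _
  | add y z _ _ hy hz => rw [map_add]; exact add_mem hy hz
  | smul r y _ hy =>
    rw [Algebra.smul_def, map_mul, hφ, ← Algebra.smul_def]
    exact Submodule.smul_mem _ _ hy

include hφ in
/-- The relations go to relations. -/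
theorem mapP_mem_J [Module.Finite R B] (hspan : Submodule.span R' (Set.range φB) = ⊤) {p : PR R B d}
    (hp : p ∈ J R B d) : mapP φB p ∈ J R' B' d := by
  obtain ⟨N, g, hg⟩ := Module.Finite.exists_fin (R := R) (M := B)
  let g' : ULift.{u} (Fin N) → B := fun k => g k.down
  have hg' : Submodule.span R (Set.range g') = ⊤ := by
    rw [show Set.range g' = Set.range g from Function.Surjective.range_comp ULift.down_surjective g]; exact hg
  refine mem_J_iff.2 fun n s' => ?_
  rw [homogeneousComponent_mapP]
  refine aeval_lam_eq_zero (φB ∘ g') (span_comp_eq_top φB hφ g' hg' hspan)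
    (isHomogeneous_mapP φB (homogeneousComponent_isHomogeneous n p)) (fun K A' _ _ y => ?_) _
  letI : Algebra R A' := ((algebraMap R' A').comp (algebraMap R R')).toAlgebra
  haveI : IsScalarTower R R' A' := IsScalarTower.of_algebraMap_eq fun _ => rfl
  rw [aeval_mapP]
  exact aeval_component_eq_zero hp n (restrictCoord φB hφ (s := g' ∘ K) y)

variable [Module.Finite R B] (hspan : Submodule.span R' (Set.range φB) = ⊤)

/-- Base change of the Plücker algebra. -/
def resGR : GR R B d →+* GR R' B' d :=
  Ideal.quotientMap (J R' B' d) (mapP φB) (show J R B d ≤ Ideal.comap (mapP φB) (J R' B' d) from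
    fun _ hp => mapP_mem_J φB hφ hspan hp)

theorem resGR_algebraMap (r : R) :
    resGR (d := d) φB hφ hspan (algebraMap R _ r) = algebraMap R' _ (algebraMap R R' r) := by
  exact Ideal.quotientMap_mk.trans (congrArg _ (mapP_C φB r))

theorem resGR_el (b : Fin d → B) : resGR φB hφ hspan (el (R := R) b) = el (φB ∘ b) := by
  exact Ideal.quotientMap_mk.trans (congrArg _ (mapP_X φB b))

theorem resGR_mem_deg {n : ℕ} {x : GR R B d} (hx : x ∈ deg R B d n) :
    resGR φB hφ hspan x ∈ deg R' B' d n := by
  obtain ⟨p, hp, rfl⟩ := mem_deg_iff.1 hx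
  exact mem_deg_iff.2 ⟨_, isHomogeneous_mapP φB hp, (Ideal.quotientMap_mk).symm⟩

include hφ in
/-- Coordinates extend to a localisation of the base on which they are defined. -/
theorem exists_extendCoord (r : R) {A : Type u} [CommRing A] [Algebra R A] [Algebra R' A] [IsScalarTower R R' A]
    (hr : IsUnit (algebraMap R A r))
    (hsurj : ∀ b' : B', ∃ (k : ℕ) (b : B), φB b = algebraMap R R' r ^ k • b')
    (hinj : ∀ b : B, φB b = 0 → ∃ k : ℕ, r ^ k • b = 0) (hR : IsLocalization.Away r R')
    {s : Fin d → B} (x : Coord R B s A) :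
    ∃ y : Coord R' B' (φB ∘ s) A, ∀ b, y.c (φB b) = x.c b := by
  have hu : ∀ k : ℕ, IsUnit (algebraMap R A (r ^ k)) := fun k => by rw [map_pow]; exact hr.pow k
  have cancel : ∀ (k : ℕ) (v w : Fin d → A), r ^ k • v = r ^ k • w → v = w := fun k v w h => funext fun j => by
    have := congrFun h j
    simp only [Pi.smul_apply, Algebra.smul_def] at this
    exact (hu k).mul_left_cancel this
  have wd : ∀ b : B, φB b = 0 → x.c b = 0 := fun b hb => by
    obtain ⟨k, hk⟩ := hinj b hb
    exact cancel k _ _ (by rw [← map_smul, hk, map_zero, smul_zero])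
  choose κ β hβ using hsurj
  let c0 : B' → Fin d → A := fun b' j => ↑((hu (κ b')).unit⁻¹) * x.c (β b') j
  have spec : ∀ (k : ℕ) (b : B) (b' : B'), φB b = algebraMap R R' r ^ k • b' → r ^ k • c0 b' = x.c b := by
    intro k b b' h
    refine cancel (κ b') _ _ ?_
    have h1 : x.c (r ^ k • β b' - r ^ κ b' • b) = 0 := wd _ (by
      rw [map_sub, Algebra.smul_def, Algebra.smul_def, map_mul, map_mul, hφ, hφ, ← Algebra.smul_def, ← Algebra.smul_def,
        hβ, h, smul_smul, smul_smul, map_pow, map_pow, mul_comm, sub_self])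
    rw [map_sub, map_smul, map_smul, sub_eq_zero] at h1
    rw [← h1, smul_smul, mul_comm, ← smul_smul]
    refine congrArg (r ^ k • ·) (funext fun j => ?_)
    rw [Pi.smul_apply, Algebra.smul_def]
    show _ * (↑((hu (κ b')).unit⁻¹) * x.c (β b') j) = _
    rw [← mul_assoc, (hu (κ b')).mul_val_inv, one_mul]
  have hc : ∀ b, c0 (φB b) = x.c b := fun b => by
    simpa using spec 0 b (φB b) (by simp)
  have hsm : ∀ (r₀ : R) (b' : B'), c0 (algebraMap R R' r₀ • b') = r₀ • c0 b' := fun r₀ b' => by
    refine cancel (κ b') _ _ ?_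
    rw [spec (κ b') (r₀ • β b') _ (by
      rw [Algebra.smul_def, map_mul, hφ, ← Algebra.smul_def, hβ, smul_comm]), map_smul, smul_comm,
      spec (κ b') (β b') b' (hβ b')]
  refine ⟨{ c := { toFun := c0, map_add' := fun a b => ?_, map_smul' := fun r' b => ?_ },
            basis := fun i j => ?_, mul := fun a b j => ?_ }, hc⟩
  · refine cancel (κ a + κ b) _ _ ?_
    rw [spec (κ a + κ b) (r ^ κ b • β a + r ^ κ a • β b) _ (by
      rw [map_add, Algebra.smul_def, Algebra.smul_def, map_mul, map_mul, hφ, hφ, ← Algebra.smul_def, ← Algebra.smul_def,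
        hβ, hβ, map_pow, map_pow, smul_smul, smul_smul, smul_add, pow_add, mul_comm (algebraMap R R' r ^ κ b)]),
      map_add, map_smul, map_smul, ← spec (κ a) (β a) a (hβ a), ← spec (κ b) (β b) b (hβ b), smul_smul, smul_smul,
      smul_add, ← pow_add, ← pow_add, add_comm (κ b) (κ a)]
  · obtain ⟨⟨r₀, _, m, rfl⟩, hm⟩ := IsLocalization.surj (Submonoid.powers r) r'
    refine cancel m _ _ ?_
    rw [← hsm, smul_smul, mul_comm, show r' * algebraMap R R' (r ^ m) = algebraMap R R' r₀ from hm, hsm,
      RingHom.id_apply, ← smul_assoc]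
    funext j
    simp only [Pi.smul_apply]
    rw [Algebra.smul_def, Algebra.smul_def, IsScalarTower.algebraMap_apply R R' A, ← hm, Algebra.smul_def, mul_comm r']
  · show c0 ((φB ∘ s) i) j = _
    rw [Function.comp_apply, hc, x.basis]
  · show c0 (a * b) j = ∑ i, c0 a i * c0 (b * (φB ∘ s) i) j
    refine (hu (κ a + κ b)).mul_left_cancel ?_
    have h1 := congrFun (spec (κ a + κ b) (β a * β b) (a * b) (by
      rw [map_mul, hβ, hβ, smul_mul_smul_comm, pow_add])) j
    rw [Pi.smul_apply, Algebra.smul_def] at h1
    rw [h1, x.mul, Finset.mul_sum]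
    refine Finset.sum_congr rfl fun i _ => ?_
    have h2 := congrFun (spec (κ a) (β a) a (hβ a)) i
    have h3 := congrFun (spec (κ b) (β b * s i) (b * (φB ∘ s) i) (by
      rw [map_mul, hβ, smul_mul_assoc]; rfl)) j
    rw [Pi.smul_apply, Algebra.smul_def] at h2 h3
    rw [← h2, ← h3, pow_add, map_mul]
    ring

variable (r : R) (hR : IsLocalization.Away r R')
  (hsurj : ∀ b' : B', ∃ (k : ℕ) (b : B), φB b = algebraMap R R' r ^ k • b')
  (hinj : ∀ b : B, φB b = 0 → ∃ k : ℕ, r ^ k • b = 0)

include hφ hR hsurj hinj in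
theorem exists_pow_mul_eq_zero {n : ℕ} {p : PR R B d} (hp : p.IsHomogeneous n) (h : mapP φB p ∈ J R' B' d) :
    ∃ m : ℕ, C (r ^ m) * p ∈ J R B d := by
  obtain ⟨N, g, hg⟩ := Module.Finite.exists_fin (R := R) (M := B)
  let g' : ULift.{u} (Fin N) → B := fun k => g k.down
  have hg' : Submodule.span R (Set.range g') = ⊤ := by
    rw [show Set.range g' = Set.range g from Function.Surjective.range_comp ULift.down_surjective g]; exact hg
  have hK : ∀ K : Fin d → ULift.{u} (Fin N), ∃ m : ℕ,
      algebraMap R _ r ^ m * aeval (fun b => lam (univCoord R B (g' ∘ K)) b) p = 0 := by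
    intro K
    let x := univCoord R B (g' ∘ K)
    let A := ChartRing R B (g' ∘ K)
    let Ar := Localization.Away (algebraMap R A r)
    have hu : IsUnit (algebraMap R Ar r) := by
      rw [IsScalarTower.algebraMap_apply R A Ar]; exact IsLocalization.Away.algebraMap_isUnit _
    letI : Algebra R' Ar := (IsLocalization.Away.lift r hu : R' →+* Ar).toAlgebra
    haveI : IsScalarTower R R' Ar := IsScalarTower.of_algebraMap_eq fun z => (IsLocalization.Away.lift_eq r hu z).symm
    obtain ⟨y, hy⟩ := exists_extendCoord φB hφ r hu hsurj hinj hR (x.push (IsScalarTower.toAlgHom R A Ar))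
    have h0 := aeval_eq_zero_of_mem h y
    rw [aeval_mapP] at h0
    have h1 : (fun b : Fin d → B => lam y (φB ∘ b)) = fun b => IsScalarTower.toAlgHom R A Ar (lam x b) :=
      funext fun b => by
        rw [← lam_push, lam_apply, lam_apply]
        exact congrArg Matrix.det (Matrix.ext fun i j => congrFun (hy (b i)) j)
    rw [h1, ← comp_aeval_apply (f := fun b => lam x b) (IsScalarTower.toAlgHom R A Ar)] at h0
    obtain ⟨⟨_, m, rfl⟩, hm⟩ := (IsLocalization.map_eq_zero_iff (Submonoid.powers (algebraMap R A r)) Ar _).1 h0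
    exact ⟨m, hm⟩
  choose m hm using hK
  refine ⟨Finset.univ.sup m, mem_J_of_isHomogeneous (hp.C_mul _) fun t => ?_⟩
  refine aeval_lam_eq_zero g' hg' (hp.C_mul _) (fun K A' _ _ y => ?_) _
  obtain ⟨φ, rfl⟩ := exists_push_univ y
  simp only [lam_push]
  rw [← comp_aeval_apply (f := fun b => lam (univCoord R B (g' ∘ K)) b) φ, map_mul (aeval _), aeval_C]
  obtain ⟨e, he⟩ := Nat.exists_eq_add_of_le (Finset.le_sup (f := m) (Finset.mem_univ K))
  rw [he, map_pow, pow_add, mul_right_comm, hm K, zero_mul, map_zero]

include hR hsurj hinj in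
/-- The Plücker algebra commutes with localisation of the base. -/
theorem isLocalization_resGR :
    letI := (resGR (d := d) φB hφ hspan).toAlgebra
    IsLocalization.Away (algebraMap R (GR R B d) r) (GR R' B' d) := by
  letI := (resGR (d := d) φB hφ hspan).toAlgebra
  refine (isLocalization_iff (M := Submonoid.powers (algebraMap R (GR R B d) r)) (S := GR R' B' d)).mpr
    ⟨?_, fun y => ?_, fun {x y} hxy => ?_⟩
  · rintro ⟨_, n, rfl⟩
    show IsUnit (resGR φB hφ hspan (algebraMap R (GR R B d) r ^ n))
    rw [map_pow, resGR_algebraMap]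
    exact ((IsLocalization.Away.algebraMap_isUnit r).map _).pow n
  · suffices h : ∀ y : GR R' B' d, ∃ (n : ℕ) (x : GR R B d),
        y * algebraMap R' _ (algebraMap R R' r ^ n) = resGR φB hφ hspan x by
      obtain ⟨n, x, hx⟩ := h y
      refine ⟨⟨x, ⟨_, n, rfl⟩⟩, ?_⟩
      show y * resGR φB hφ hspan (algebraMap R (GR R B d) r ^ n) = _
      rw [map_pow, resGR_algebraMap, ← map_pow]
      exact hx
    intro y
    obtain ⟨q, rfl⟩ := Ideal.Quotient.mk_surjective y
    induction q using MvPolynomial.induction_on with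
    | C r' =>
      obtain ⟨⟨a, _, n, rfl⟩, ha⟩ := IsLocalization.surj (Submonoid.powers r) r'
      refine ⟨n, algebraMap R _ a, ?_⟩
      rw [resGR_algebraMap, show algebraMap R R' a = r' * algebraMap R R' (r ^ n) from ha.symm, map_mul, ← map_pow]
      rfl
    | add p q hp hq =>
      obtain ⟨n, x, hx⟩ := hp
      obtain ⟨k, z, hz⟩ := hq
      refine ⟨n + k, x * algebraMap R _ (r ^ k) + z * algebraMap R _ (r ^ n), ?_⟩
      rw [map_add, map_add, map_mul, map_mul, resGR_algebraMap, resGR_algebraMap, ← hx, ← hz, pow_add, map_mul,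
        map_pow, map_pow]
      simp only [map_pow]
      ring
    | mul_X p b' hp =>
      obtain ⟨n, x, hx⟩ := hp
      choose k β hβ using fun i => hsurj (b' i)
      obtain ⟨e, he⟩ : ∃ e : Fin d → ℕ, ∀ i, k i + e i = Finset.univ.sup k :=
        ⟨fun i => Finset.univ.sup k - k i, fun i => Nat.add_sub_cancel' (Finset.le_sup (Finset.mem_univ i))⟩
      refine ⟨n + ∑ i, (k i), x * el β, ?_⟩
      have hsc : el (R := R') (φB ∘ β) = algebraMap R' _ (algebraMap R R' r ^ ∑ i, k i) * el b' := by
        rw [el, el, show algebraMap R' (GR R' B' d) _ = Ideal.Quotient.mk _ (C (algebraMap R R' r ^ ∑ i, k i)) from rfl,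
          ← map_mul, Ideal.Quotient.eq]
        refine mem_J_of_isHomogeneous (n := 1) ((isHomogeneous_X _ _).sub ((isHomogeneous_X _ _).C_mul _)) fun t => ?_
        rw [map_sub, map_mul, aeval_X, aeval_C, aeval_X, sub_eq_zero,
          show (φB ∘ β) = fun i => algebraMap R R' r ^ k i • b' i from funext hβ, (lam _).map_smul_univ,
          Finset.prod_pow_eq_pow_sum, Algebra.smul_def]
      rw [map_mul (resGR φB hφ hspan), resGR_el, ← hx, hsc, map_mul, pow_add, map_mul]
      show _ * Ideal.Quotient.mk _ (X b') * _ = _ * (_ * Ideal.Quotient.mk _ (X b'))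
      ring
  · obtain ⟨p, rfl⟩ := Ideal.Quotient.mk_surjective x
    obtain ⟨q, rfl⟩ := Ideal.Quotient.mk_surjective y
    change resGR φB hφ hspan _ = resGR φB hφ hspan _ at hxy
    have h0 : mapP φB (p - q) ∈ J R' B' d := by
      rw [← sub_eq_zero, ← map_sub, ← map_sub (Ideal.Quotient.mk _)] at hxy
      exact Ideal.Quotient.eq_zero_iff_mem.1 hxy
    have hcomp : ∀ i, mapP φB (homogeneousComponent i (p - q)) ∈ J R' B' d := fun i => by
      rw [← homogeneousComponent_mapP]; exact component_mem_J h0 i
    choose m hm using fun i => exists_pow_mul_eq_zero φB hφ r hR hsurj hinj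
      (homogeneousComponent_isHomogeneous i (p - q)) (hcomp i)
    let M := (Finset.range ((p - q).totalDegree + 1)).sup m
    refine ⟨⟨_, M, rfl⟩, ?_⟩
    show algebraMap R (GR R B d) r ^ M * _ = algebraMap R (GR R B d) r ^ M * _
    rw [← map_pow, show algebraMap R (GR R B d) (r ^ M) = Ideal.Quotient.mk _ (C (r ^ M)) from rfl, ← map_mul,
      ← map_mul, Ideal.Quotient.eq, ← mul_sub, ← sum_homogeneousComponent (p - q), Finset.mul_sum]
    refine Ideal.sum_mem _ fun i hi => ?_
    obtain ⟨e, he⟩ := Nat.exists_eq_add_of_le (Finset.le_sup (f := m) hi)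
    rw [show M = m i + e from he, pow_add, map_mul, mul_right_comm]
    exact Ideal.mul_mem_right _ _ (hm i)

end Base

end Groth.L11.HilbProj
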