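import Mathlib.AlgebraicGeometry.ProjectiveSpectrum.Functor

/-!
# Points of `Proj` from evaluation homomorphisms
-/

set_option autoImplicit false
set_option linter.style.haveILetI false

universe u

open CategoryTheory AlgebraicGeometry HomogeneousLocalization
open scoped HomogeneousIdeal

noncomputable section

namespace Groth.L11.HilbProj

variable {T σ : Type u} [CommRing T] [SetLike σ T] [AddSubgroupClass σ T] {𝒜 : ℕ → σ} [GradedRing 𝒜]
  {C : Type u} [CommRing C]

/-- A ring map sending a degree-one element to `1` evaluates the degree-zero localisation. -/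
def evAway (F : T →+* C) {a : T} (_ha : a ∈ 𝒜 1) (h : F a = 1) : Away 𝒜 a →+* C :=
  (IsLocalization.Away.lift (S := Localization.Away a) a (g := F) (by rw [h]; exact isUnit_one)).comp
    (algebraMap (Away 𝒜 a) (Localization.Away a))

theorem evAway_mk (F : T →+* C) {a : T} (ha : a ∈ 𝒜 1) (h : F a = 1) (n : ℕ) (x : T) (hx : x ∈ 𝒜 (n • 1)) :
    evAway F ha h (Away.mk 𝒜 ha n x hx) = F x := by
  rw [evAway, RingHom.comp_apply, HomogeneousLocalization.algebraMap_apply, Away.val_mk, Localization.mk_eq_mk']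
  show IsLocalization.lift _ _ = _
  rw [IsLocalization.lift_mk'_spec]
  show F x = F (a ^ n) * F x
  rw [map_pow, h, one_pow, one_mul]

theorem evAway_fromZero (F : T →+* C) {a : T} (ha : a ∈ 𝒜 1) (h : F a = 1) (z : 𝒜 0) :
    evAway F ha h (fromZeroRingHom 𝒜 (Submonoid.powers a) z) = F z := by
  have e : fromZeroRingHom 𝒜 (Submonoid.powers a) z = Away.mk 𝒜 ha 0 (z : T) (by simpa using z.2) := by
    apply HomogeneousLocalization.val_injective
    rw [Away.val_mk]
    simp only [pow_zero]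
    rfl
  rw [e, evAway_mk]

theorem evAway_congr {F F' : T →+* C} {a : T} (ha : a ∈ 𝒜 1) (h : F a = 1) (h' : F' a = 1)
    (H : ∀ n, ∀ x ∈ 𝒜 n, F x = F' x) : evAway F ha h = evAway F' ha h' := by
  ext z
  obtain ⟨n, x, hx, rfl⟩ := Away.mk_surjective 𝒜 ha z
  rw [evAway_mk, evAway_mk]
  exact H n x (by simpa using hx)

theorem comp_evAway {C' : Type u} [CommRing C'] (g : C →+* C') (F : T →+* C) {a : T} (ha : a ∈ 𝒜 1) (h : F a = 1) :
    g.comp (evAway F ha h) = evAway (g.comp F) ha (by rw [RingHom.comp_apply, h, map_one]) := by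
  ext z
  obtain ⟨n, x, hx, rfl⟩ := Away.mk_surjective 𝒜 ha z
  rw [RingHom.comp_apply, evAway_mk, evAway_mk]
  rfl

/-- The point of `Proj`. -/
def projPt (F : T →+* C) {a : T} (ha : a ∈ 𝒜 1) (h : F a = 1) : Spec (CommRingCat.of C) ⟶ Proj 𝒜 :=
  Spec.map (CommRingCat.ofHom (evAway F ha h)) ≫ Proj.awayι 𝒜 a ha one_pos

theorem map_projPt {C' : Type u} [CommRing C'] (g : C →+* C') (F : T →+* C) {a : T} (ha : a ∈ 𝒜 1) (h : F a = 1) :
    Spec.map (CommRingCat.ofHom g) ≫ projPt F ha h =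
      projPt (g.comp F) ha (by rw [RingHom.comp_apply, h, map_one]) := by
  rw [projPt, projPt, ← Category.assoc, ← Spec.map_comp, ← CommRingCat.ofHom_comp, comp_evAway]

/-- Proportional evaluations give the same point. -/
theorem projPt_eq_of_scale {F F' : T →+* C} {a b : T} (ha : a ∈ 𝒜 1) (hb : b ∈ 𝒜 1) (h : F a = 1) (h' : F' b = 1)
    (hu : IsUnit (F b)) (H : ∀ n, ∀ x ∈ 𝒜 n, F x = F b ^ n * F' x) : projPt F ha h = projPt F' hb h' := by
  letI := (awayMap (f := a) 𝒜 hb (rfl : a * b = a * b)).toAlgebra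
  haveI := Away.isLocalization_mul ha hb (rfl : a * b = a * b) one_ne_zero
  have helem : evAway F ha h (Away.isLocalizationElem ha hb) = F b := by
    rw [Away.isLocalizationElem, evAway_mk, pow_one]
  have hu' : IsUnit (evAway F ha h (Away.isLocalizationElem ha hb)) := by rw [helem]; exact hu
  obtain ⟨γ, hL⟩ : ∃ γ : Away 𝒜 (a * b) →+* C, γ.comp (awayMap 𝒜 hb rfl) = evAway F ha h :=
    ⟨IsLocalization.Away.lift (S := Away 𝒜 (a * b)) (Away.isLocalizationElem ha hb) hu',
      IsLocalization.Away.lift_comp (S := Away 𝒜 (a * b)) (Away.isLocalizationElem ha hb) hu'⟩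
  have hR : γ.comp (awayMap 𝒜 ha (mul_comm a b)) = evAway F' hb h' := by
    ext z
    obtain ⟨n, x, hx, rfl⟩ := Away.mk_surjective 𝒜 hb z
    have hx' : x ∈ 𝒜 n := by simpa using hx
    have hbn : b ^ n ∈ 𝒜 (n • 1) := SetLike.pow_mem_graded n hb
    have key : awayMap 𝒜 ha (mul_comm a b) (Away.mk 𝒜 hb n x hx) * awayMap 𝒜 hb rfl (Away.mk 𝒜 ha n (b ^ n) hbn) =
        awayMap 𝒜 hb rfl (Away.mk 𝒜 ha n x hx) := by
      apply HomogeneousLocalization.val_injective
      rw [val_mul]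
      refine (congrArg₂ (· * ·) (val_awayMap_mk 𝒜 ha (mul_comm a b) (n • 1) ⟨x, hx⟩ n _)
        (val_awayMap_mk 𝒜 hb rfl (n • 1) ⟨b ^ n, hbn⟩ n _)).trans
        (Eq.trans ?_ (val_awayMap_mk 𝒜 hb rfl (n • 1) ⟨x, hx⟩ n _).symm)
      rw [Localization.mk_mul, Localization.mk_eq_mk_iff, Localization.r_iff_exists]
      exact ⟨1, by simp only [OneMemClass.coe_one, one_mul, Submonoid.coe_mul]; ring⟩
    have h2 := congrArg γ key
    rw [map_mul, ← RingHom.comp_apply γ (awayMap 𝒜 hb rfl), ← RingHom.comp_apply γ (awayMap 𝒜 hb rfl), hL, evAway_mk,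
      evAway_mk, map_pow, H n x hx', mul_comm (F b ^ n)] at h2
    rw [RingHom.comp_apply, evAway_mk]
    exact (hu.pow n).mul_right_cancel h2
  rw [projPt, projPt, ← hL, ← hR, CommRingCat.ofHom_comp, CommRingCat.ofHom_comp, Spec.map_comp, Spec.map_comp,
    Category.assoc, Category.assoc, Proj.SpecMap_awayMap_awayι, Proj.SpecMap_awayMap_awayι]

/-- A point in the standard open of `b` makes `b` invertible. -/
theorem isUnit_of_mem (F : T →+* C) {a b : T} (ha : a ∈ 𝒜 1) (hb : b ∈ 𝒜 1) (h : F a = 1)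
    (hmem : ∀ p, projPt F ha h p ∈ Proj.basicOpen 𝒜 b) : IsUnit (F b) := by
  by_contra hne
  obtain ⟨P, hP, hle⟩ := exists_max_ideal_of_mem_nonunits hne
  let p : ↥(Spec (CommRingCat.of C)) := (⟨P, hP.isPrime⟩ : PrimeSpectrum C)
  have h1 : Spec.map (CommRingCat.ofHom (evAway F ha h)) p ∈ Proj.awayι 𝒜 a ha one_pos ⁻¹ᵁ Proj.basicOpen 𝒜 b := by
    have := hmem p
    rwa [projPt, Scheme.Hom.comp_apply] at this
  rw [Proj.awayι_preimage_basicOpen _ ha one_pos hb one_pos] at h1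
  refine h1 ?_
  show evAway F ha h (Away.isLocalizationElem ha hb) ∈ P
  rw [Away.isLocalizationElem, evAway_mk, pow_one]
  exact hle

variable {T' τ : Type u} [CommRing T'] [SetLike τ T'] [AddSubgroupClass τ T'] {ℬ : ℕ → τ} [GradedRing ℬ]

/-- Functoriality of points. -/
theorem projPt_map (φ : 𝒜 →+*ᵍ ℬ) (hφ : ℬ₊ ≤ 𝒜₊.map φ) (F : T' →+* C) {a : T} (ha : a ∈ 𝒜 1)
    {b : T'} (hb : b ∈ ℬ 1) (hab : φ a = b) (h : F b = 1) :
    projPt F hb h ≫ Proj.map φ hφ = projPt (F.comp (φ : T →+* T')) ha (by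
      rw [RingHom.comp_apply]; exact (congrArg F hab).trans h) := by
  subst hab
  rw [projPt, projPt, Category.assoc, Proj.awayι_comp_map _ _ one_pos _ ha, ← Category.assoc, ← Spec.map_comp,
    ← CommRingCat.ofHom_comp]
  refine congrArg (fun g : Away 𝒜 a →+* C => Spec.map (CommRingCat.ofHom g) ≫ Proj.awayι 𝒜 a ha one_pos) ?_
  ext z
  obtain ⟨n, x, hx, rfl⟩ := Away.mk_surjective 𝒜 ha z
  rw [RingHom.comp_apply, Away.map_mk, evAway_mk, evAway_mk]
  rfl

end Groth.L11.HilbProj
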