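import Groth.Agent.L02.Hilb.ChartAlg
import Mathlib.LinearAlgebra.Matrix.Adjugate
import Mathlib.LinearAlgebra.Matrix.NonsingularInverse
import Mathlib.LinearAlgebra.Multilinear.Basic
import Mathlib.RingTheory.Localization.Away.Basic
import Mathlib.RingTheory.MvPolynomial.Homogeneous

/-!
# Plücker coordinates of quotient algebras with a basis

For coordinates `x` of a rank `d` quotient of `A ⊗ B`, the determinants `lam x b` of the images of
`d` elements are the Plücker coordinates of the quotient.
-/

set_option autoImplicit false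
set_option linter.style.haveILetI false

universe u

open scoped TensorProduct

noncomputable section

namespace Groth.L11.HilbProj

open Groth.L02.Hilb Matrix

variable {R B : Type u} [CommRing R] [CommRing B] [Algebra R B] {d : ℕ} {s t : Fin d → B}
  {A : Type u} [CommRing A] [Algebra R A]

/-- The Plücker coordinates of a quotient. -/
def lam (x : Coord R B s A) : MultilinearMap R (fun _ : Fin d => B) A :=
  (((Matrix.detRowAlternating : (Fin d → A) [⋀^Fin d]→ₗ[A] A).toMultilinearMap).restrictScalars R).compLinearMap
    fun _ => x.c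

theorem lam_apply (x : Coord R B s A) (b : Fin d → B) : lam x b = (Matrix.of fun i => x.c (b i)).det := rfl

theorem lam_self (x : Coord R B s A) : lam x s = 1 := by
  rw [lam_apply, show (Matrix.of fun i => x.c (s i)) = (1 : Matrix (Fin d) (Fin d) A) from
    Matrix.ext fun i j => (x.basis i j).trans (Matrix.one_apply (i := i) (j := j)).symm, Matrix.det_one]

theorem lam_update (x : Coord R B s A) (b : B) (j : Fin d) : lam x (Function.update s j b) = x.c b j := by
  have h : (Matrix.of fun i => x.c (Function.update s j b i)) =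
      (1 : Matrix (Fin d) (Fin d) A).updateRow j (x.c b) := by
    ext i k
    by_cases hi : i = j
    · subst hi; simp
    · simp [Matrix.updateRow_ne hi, Function.update_of_ne hi, x.basis, Matrix.one_apply]
  rw [lam_apply, h, ← Matrix.det_transpose, ← Matrix.updateCol_transpose, Matrix.transpose_one,
    ← Matrix.cramer_apply, Matrix.cramer_one]
  rfl

theorem lam_push {A' : Type u} [CommRing A'] [Algebra R A'] (x : Coord R B s A) (φ : A →ₐ[R] A') (b : Fin d → B) :
    lam (x.push φ) b = φ (lam x b) := by
  rw [lam_apply, lam_apply, AlgHom.map_det]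
  exact congrArg Matrix.det (Matrix.ext fun i j => rfl)

/-- Coordinates of one quotient in two bases. -/
theorem c_eq_sum (x : Coord R B s A) (y : Coord R B t A) (h : y.ideal = x.ideal) (b : B) :
    x.c b = ∑ i, y.c b i • x.c (t i) := by
  have h1 : (1 : A) ⊗ₜ[R] b - Coord.sec t (y.c b) ∈ x.ideal := h ▸ Ideal.subset_span ⟨b, rfl⟩
  rw [x.mem_ideal_iff, map_sub, sub_eq_zero, Coord.ext_tmul, one_smul] at h1
  rw [h1, Coord.sec, map_sum]
  exact Finset.sum_congr rfl fun i _ => Coord.ext_tmul _ _ _

theorem lam_mul_lam (x : Coord R B s A) (y : Coord R B t A) (h : y.ideal = x.ideal) (b : Fin d → B) :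
    lam y b * lam x t = lam x b := by
  rw [lam_apply, lam_apply, lam_apply, ← Matrix.det_mul]
  refine congrArg Matrix.det (Matrix.ext fun i j => ?_)
  rw [Matrix.mul_apply, Matrix.of_apply, c_eq_sum x y h (b i), Finset.sum_apply]
  rfl

theorem isUnit_lam (x : Coord R B s A) (y : Coord R B t A) (h : y.ideal = x.ideal) : IsUnit (lam x t) :=
  IsUnit.of_mul_eq_one_right _ ((lam_mul_lam x y h s).trans (lam_self x))

/-- Elements with invertible Plücker coordinate give a basis of the quotient. -/
theorem exists_change (x : Coord R B s A) (h : IsUnit (lam x t)) :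
    ∃ y : Coord R B t A, y.ideal = x.ideal := by
  let M : Matrix (Fin d) (Fin d) A := Matrix.of fun i => x.c (t i)
  obtain ⟨u, hu⟩ := (Matrix.isUnit_iff_isUnit_det M).2 h
  have hext : ∀ v : Fin d → A, x.ext (Coord.sec t v) = v ᵥ* M := fun v => by
    funext j
    simp [Coord.sec, map_sum, Coord.ext_tmul, Finset.sum_apply, Matrix.vecMul, dotProduct, M]
  refine Coord.exists_of_bijective x.ideal ⟨fun v w hvw => ?_, fun q => ?_⟩
  · have h1 : x.ext (Coord.sec t v - Coord.sec t w) = 0 := (x.mem_ideal_iff _).1 (Ideal.Quotient.eq.1 hvw)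
    rw [map_sub, sub_eq_zero, hext, hext] at h1
    have h2 := congrArg (fun z : Fin d → A => z ᵥ* (↑u⁻¹ : Matrix (Fin d) (Fin d) A)) h1
    simp only [Matrix.vecMul_vecMul, ← hu, Units.mul_inv, Matrix.vecMul_one] at h2
    exact h2
  · obtain ⟨z, rfl⟩ := Ideal.Quotient.mk_surjective q
    refine ⟨x.ext z ᵥ* (↑u⁻¹ : Matrix (Fin d) (Fin d) A), Ideal.Quotient.eq.2 ((x.mem_ideal_iff _).2 ?_)⟩
    rw [map_sub, hext, Matrix.vecMul_vecMul, ← hu, Units.inv_mul, Matrix.vecMul_one, sub_self]

theorem aeval_smul_of_isHomogeneous {σ : Type*} {n : ℕ} {p : MvPolynomial σ R} (hp : p.IsHomogeneous n)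
    (c : A) (v : σ → A) :
    MvPolynomial.aeval (fun i => c * v i) p = c ^ n * MvPolynomial.aeval v p := by
  rw [MvPolynomial.as_sum p, map_sum, map_sum, Finset.mul_sum]
  refine Finset.sum_congr rfl fun m hm => ?_
  rw [MvPolynomial.aeval_monomial, MvPolynomial.aeval_monomial]
  simp only [Finsupp.prod, mul_pow, Finset.prod_mul_distrib, Finset.prod_pow_eq_pow_sum]
  have hdeg : ∑ i ∈ m.support, m i = n := by
    have := hp (MvPolynomial.mem_support_iff.1 hm)
    simpa [Finsupp.weight_apply, Finsupp.sum] using this
  rw [hdeg]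
  ring

/-- After inverting a Plücker coordinate the quotient gets the corresponding basis. -/
theorem exists_localize (x : Coord R B t A) (s : Fin d → B) :
    ∃ y : Coord R B s (Localization.Away (lam x s)), ∀ b,
      algebraMap A (Localization.Away (lam x s)) (lam x b) =
        algebraMap A (Localization.Away (lam x s)) (lam x s) * lam y b := by
  let φ : A →ₐ[R] Localization.Away (lam x s) := IsScalarTower.toAlgHom R A _
  obtain ⟨y, hy⟩ := exists_change (t := s) (x.push φ) (by
    rw [lam_push]
    exact IsLocalization.Away.algebraMap_isUnit (lam x s))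
  refine ⟨y, fun b => ?_⟩
  have := lam_mul_lam (x.push φ) y hy b
  rw [lam_push, lam_push] at this
  exact this.symm.trans (mul_comm _ _)

/-- A homogeneous polynomial vanishing on the coordinates with basis `s` vanishes where the `s` is a basis. -/
theorem exists_pow_lam_mul_eq_zero {n : ℕ} {p : MvPolynomial (Fin d → B) R} (hp : p.IsHomogeneous n)
    (x : Coord R B t A) (s : Fin d → B)
    (h : ∀ (A' : Type u) (_ : CommRing A') (_ : Algebra R A') (y : Coord R B s A'),
      MvPolynomial.aeval (fun b => lam y b) p = 0) :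
    ∃ m : ℕ, lam x s ^ m * MvPolynomial.aeval (fun b => lam x b) p = 0 := by
  obtain ⟨y, hy⟩ := exists_localize x s
  set Ah := Localization.Away (lam x s)
  have h0 : algebraMap A Ah (MvPolynomial.aeval (fun b => lam x b) p) = 0 := by
    rw [← IsScalarTower.toAlgHom_apply R A Ah, MvPolynomial.comp_aeval_apply]
    simp only [IsScalarTower.toAlgHom_apply]
    rw [show (fun i => algebraMap A Ah (lam x i)) = fun i => algebraMap A Ah (lam x s) * lam y i from funext hy]
    rw [aeval_smul_of_isHomogeneous hp, h _ inferInstance inferInstance y, mul_zero]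
  obtain ⟨⟨_, m, rfl⟩, hm⟩ := (IsLocalization.map_eq_zero_iff (Submonoid.powers (lam x s)) Ah _).1 h0
  exact ⟨m, hm⟩

/-- Multilinear expansion of the Plücker coordinates in generators. -/
theorem lam_expand {N : Type u} [Fintype N] (x : Coord R B s A) (g : N → B) (c : Fin d → N → R) :
    lam x (fun i => ∑ k, c i k • g k) = ∑ K : Fin d → N, (∏ i, c i (K i)) • lam x (g ∘ K) := by
  classical
  rw [(lam x).map_sum]
  exact Finset.sum_congr rfl fun K _ => (lam x).map_smul_univ _ _

/-- The Plücker coordinates of tuples of generators generate the unit ideal. -/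
theorem span_lam_eq_top {N : Type u} [Fintype N] (x : Coord R B s A) (g : N → B)
    (hg : Submodule.span R (Set.range g) = ⊤) :
    Ideal.span (Set.range fun K : Fin d → N => lam x (g ∘ K)) = ⊤ := by
  have hc : ∀ b : B, ∃ c : N → R, ∑ k, c k • g k = b := fun b =>
    (Submodule.mem_span_range_iff_exists_fun R).1 (hg ▸ Submodule.mem_top)
  choose c hc using hc
  rw [Ideal.eq_top_iff_one, ← lam_self x,
    show lam x s = lam x (fun i => ∑ k, c (s i) k • g k) from congrArg (lam x) (funext fun i => (hc _).symm),
    lam_expand]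
  refine Ideal.sum_mem _ fun K _ => ?_
  rw [Algebra.smul_def]
  exact Ideal.mul_mem_left _ _ (Ideal.subset_span ⟨K, rfl⟩)

/-- Vanishing of homogeneous polynomials can be tested on tuples of generators. -/
theorem aeval_lam_eq_zero {N : Type u} [Fintype N] (g : N → B) (hg : Submodule.span R (Set.range g) = ⊤)
    {n : ℕ} {p : MvPolynomial (Fin d → B) R} (hp : p.IsHomogeneous n)
    (h : ∀ (K : Fin d → N) (A' : Type u) (_ : CommRing A') (_ : Algebra R A') (y : Coord R B (g ∘ K) A'),
      MvPolynomial.aeval (fun b => lam y b) p = 0)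
    (x : Coord R B s A) : MvPolynomial.aeval (fun b => lam x b) p = 0 := by
  set e := MvPolynomial.aeval (fun b => lam x b) p
  choose m hm using fun K : Fin d → N => exists_pow_lam_mul_eq_zero hp x (g ∘ K) (h K)
  have htop : Ideal.span (Set.range fun K : Fin d → N => lam x (g ∘ K) ^ m K) = ⊤ := by
    refine Ideal.eq_top_iff_one _ |>.2 ?_
    by_contra hne
    obtain ⟨P, hP, hle⟩ := Ideal.exists_le_maximal (Ideal.span (Set.range fun K : Fin d → N => lam x (g ∘ K) ^ m K))
      (fun h' => hne (by rw [h']; trivial))
    refine hP.ne_top (eq_top_iff.2 ((span_lam_eq_top x g hg).ge.trans (Ideal.span_le.2 ?_)))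
    rintro _ ⟨K, rfl⟩
    exact hP.isPrime.mem_of_pow_mem (m K) (hle (Ideal.subset_span (Set.mem_range_self (f := fun K : Fin d → N => lam x (g ∘ K) ^ m K) K)))
  have hann : ∀ a ∈ Ideal.span (Set.range fun K : Fin d → N => lam x (g ∘ K) ^ m K), a * e = 0 := by
    intro a ha
    induction ha using Submodule.span_induction with
    | mem y hy => obtain ⟨K, rfl⟩ := hy; exact hm K
    | zero => exact zero_mul _
    | add y z _ _ hy hz => rw [add_mul, hy, hz, add_zero]
    | smul r y _ hy => rw [smul_eq_mul, mul_assoc, hy, mul_zero]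
  simpa using hann 1 (htop ▸ Submodule.mem_top)

variable {R' B' : Type u} [CommRing R'] [CommRing B'] [Algebra R' B'] [Algebra R R'] [Algebra R' A]
  [IsScalarTower R R' A] (φB : B →+* B')
  (hφ : ∀ r : R, φB (algebraMap R B r) = algebraMap R' B' (algebraMap R R' r))

/-- Coordinates of a quotient of the base change, seen over the base. -/
def restrictCoord (y : Coord R' B' (φB ∘ s) A) : Coord R B s A where
  c :=
    { toFun := fun b => y.c (φB b)
      map_add' := fun b b' => by rw [map_add, map_add]
      map_smul' := fun r b => by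
        rw [RingHom.id_apply, Algebra.smul_def, map_mul, hφ, ← Algebra.smul_def, map_smul]
        funext j
        simp }
  basis i j := y.basis i j
  mul b b' j := by
    show y.c (φB (b * b')) j = ∑ i, y.c (φB b) i * y.c (φB (b' * s i)) j
    rw [map_mul, y.mul]
    simp [map_mul]

theorem lam_restrictCoord (y : Coord R' B' (φB ∘ s) A) (b : Fin d → B) :
    lam (restrictCoord φB hφ y) b = lam y (φB ∘ b) := rfl

end Groth.L11.HilbProj
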