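import Groth.Agent.L11.HilbProj.Data
import Groth.Agent.L11.HilbProj.Homog
import Groth.Agent.L02.Hilb.Repr
import Groth.Agent.L18.RelProj.Exists
import Groth.Agent.L18.RelProj.Props

/-!
# Affine points of the Hilbert functor of points of a finite morphism inside the relative `Proj`

An affine point is given by coordinates of a quotient over an affine open of the base. It has a family in the
Hilbert functor and a point of the relative `Proj` of the Plücker algebra; each determines the other.
-/

set_option autoImplicit false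
set_option linter.style.haveILetI false
set_option linter.unusedSectionVars false
set_option backward.isDefEq.respectTransparency false
set_option backward.isDefEq.respectTransparency.types false

noncomputable section

universe u

open CategoryTheory CategoryTheory.Limits AlgebraicGeometry TopologicalSpace Opposite
open Groth.L02.Hilb Groth.L13.BU
open Groth.L18.FinProj (ρ)
open scoped TensorProduct

namespace Groth.L11.HilbProj

attribute [local instance] algB

variable {X S : Scheme.{u}} (f : X ⟶ S) [IsFinite f] {d : ℕ}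

/-- The affine chart over an affine open of the base with given elements. -/
abbrev mkChart {U : S.Opens} (hU : IsAffineOpen U) (s : Fin d → Γ(X, f ⁻¹ᵁ U)) : Chart f d where
  R := Γ(S, U)
  B := Γ(X, f ⁻¹ᵁ U)
  i := hU.fromSpec
  j := (hU.preimage f).fromSpec
  w := (IsAffineOpen.SpecMap_appLE_fromSpec f hU (hU.preimage f) le_rfl).symm.trans
    (congrArg (fun g => Spec.map g ≫ hU.fromSpec) (Scheme.Hom.app_eq_appLE (f := f) (U := U)).symm)
  s := s

/-- An affine point of the Hilbert functor with coordinates over `U`. -/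
structure Pres {U : S.Opens} (hU : IsAffineOpen U) {C : Type u} [CommRing C] (a : Spec (CommRingCat.of C) ⟶ S)
    (d : ℕ) where
  /-- the map of base rings -/
  σ : Γ(S, U) →+* C
  hσ : Spec.map (CommRingCat.ofHom σ) ≫ hU.fromSpec = a
  /-- the basis -/
  s : Fin d → Γ(X, f ⁻¹ᵁ U)
  /-- the coordinates -/
  x : letI := σ.toAlgebra; Coord Γ(S, U) Γ(X, f ⁻¹ᵁ U) s C

variable {f}

namespace Pres

variable {U : S.Opens} {hU : IsAffineOpen U} {C : Type u} [CommRing C] {a : Spec (CommRingCat.of C) ⟶ S}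
  (π : Pres f hU a d)

/-- The coordinates as a point of the structure morphism. -/
def toOver : letI := π.σ.toAlgebra; Over.mk a ⟶ (mkChart f hU π.s).over C :=
  letI := π.σ.toAlgebra
  Over.homMk (𝟙 _) ((Category.id_comp _).trans π.hσ)

/-- The family. -/
def fam : (PicF.XT f (Over.mk a)).IdealSheafData :=
  letI := π.σ.toAlgebra
  HilbD.pull f π.toOver ((mkChart f hU π.s).famIdeal π.x)

/-- The evaluation. -/
def F : (grAlg f d).presheaf.obj (op U) →+* C :=
  letI := π.σ.toAlgebra
  (evCoord π.x).toRingHom.comp (ηg f U hU).toRingHom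

/-- The degree-one element of the basis. -/
def tEl : (grAlg f d).presheaf.obj (op U) := (ηg f U hU).symm (el π.s)

theorem tEl_mem : π.tEl ∈ (grAlg f d).deg U hU 1 := by
  show ηg f U hU ((ηg f U hU).symm (el π.s)) ∈ deg Γ(S, U) Γ(X, f ⁻¹ᵁ U) d 1
  rw [RingEquiv.apply_symm_apply]
  exact el_mem_deg _

theorem F_tEl : π.F π.tEl = 1 := by
  letI := π.σ.toAlgebra
  show evCoord π.x (ηg f U hU ((ηg f U hU).symm _)) = 1
  rw [RingEquiv.apply_symm_apply, evCoord_self]

theorem F_str (r : Γ(S, U)) : π.F (((grAlg f d).str.app (op U)).hom r) = π.σ r := by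
  letI := π.σ.toAlgebra
  show evCoord π.x (ηg f U hU _) = _
  rw [ηg_str, AlgHom.commutes]
  rfl

variable {P : Scheme.{u}} {p : P ⟶ S}
  (chart : ∀ (U : S.Opens) (hU : IsAffineOpen U), (((p ⁻¹ᵁ U : P.Opens) : Scheme.{u}) ≅ Proj ((grAlg f d).deg U hU)))

/-- The point of the relative `Proj`. -/
def pt : Spec (CommRingCat.of C) ⟶ P := projPt π.F π.tEl_mem π.F_tEl ≫ RelProj.emb p chart U hU

theorem pt_comp (hP : RelProj.IsRelProj (grAlg f d) p chart) : π.pt chart ≫ p = a := by
  rw [pt, Category.assoc, RelProj.emb, Category.assoc, Groth.L18.RP.chart_ι_comp hP U hU,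
    Groth.L18.RP.projBase_ι, projPt, Category.assoc, Proj.awayι_toSpecZero_assoc, ← Spec.map_comp_assoc,
    ← Spec.map_comp_assoc]
  refine Eq.trans (congrArg (fun g : Γ(S, U) ⟶ CommRingCat.of C => Spec.map g ≫ hU.fromSpec) ?_) π.hσ
  refine CommRingCat.hom_ext (RingHom.ext fun r => ?_)
  exact (evAway_fromZero π.F π.tEl_mem π.F_tEl _).trans (π.F_str r)

/-- Base change of a point. -/
def push {C' : Type u} [CommRing C'] (φ : C →+* C') {a' : Spec (CommRingCat.of C') ⟶ S}
    (ha : Spec.map (CommRingCat.ofHom φ) ≫ a = a') : Pres f hU a' d where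
  σ := φ.comp π.σ
  hσ := by rw [CommRingCat.ofHom_comp, Spec.map_comp, Category.assoc, π.hσ, ha]
  s := π.s
  x :=
    letI := π.σ.toAlgebra
    letI := (φ.comp π.σ).toAlgebra
    π.x.push { φ with commutes' := fun _ => rfl }

variable {C' : Type u} [CommRing C'] (φ : C →+* C') {a' : Spec (CommRingCat.of C') ⟶ S}
  (ha : Spec.map (CommRingCat.ofHom φ) ≫ a = a')

theorem push_F : (π.push φ ha).F = φ.comp π.F := by
  letI := π.σ.toAlgebra
  letI := (φ.comp π.σ).toAlgebra
  exact RingHom.ext fun z => evCoord_push π.x { φ with commutes' := fun _ => rfl } (ηg f U hU z)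

theorem push_pt : (π.push φ ha).pt chart = Spec.map (CommRingCat.ofHom φ) ≫ π.pt chart := by
  show projPt _ _ _ ≫ _ = _ ≫ projPt _ _ _ ≫ _
  rw [← Category.assoc (Spec.map _), map_projPt]
  refine congrArg (· ≫ _) ?_
  show projPt (a := π.tEl) _ _ _ = _
  congr 1
  exact π.push_F φ ha

theorem push_fam :
    (π.push φ ha).fam = HilbD.pull f (Over.homMk (Spec.map (CommRingCat.ofHom φ)) ha : Over.mk a' ⟶ Over.mk a) π.fam := by
  letI := π.σ.toAlgebra
  letI := (φ.comp π.σ).toAlgebra
  show HilbD.pull f _ ((mkChart f hU π.s).famIdeal (π.x.push _)) = _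
  rw [← Chart.pull_famIdeal, fam, ← pull_comp, ← pull_comp]
  refine congrArg (fun g => HilbD.pull f g _) (Over.OverMorphism.ext ?_)
  show 𝟙 _ ≫ Spec.map _ = Spec.map _ ≫ 𝟙 _
  rw [Category.id_comp, Category.comp_id]

end Pres

/-- All of `X` over an affine open of the base is the chart. -/
theorem isIso_μ {U : S.Opens} (hU : IsAffineOpen U) (s : Fin d → Γ(X, f ⁻¹ᵁ U)) (C : Type u) [CommRing C]
    [Algebra Γ(S, U) C] : IsIso ((mkChart f hU s).μ C) := by
  refine (isIso_iff_isOpenImmersion_and_surjective _).2 ⟨inferInstance, ⟨fun z => ?_⟩⟩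
  refine ((mkChart f hU s).mem_range_μ C z).2 ?_
  show _ ∈ Set.range (hU.preimage f).fromSpec
  rw [(hU.preimage f).range_fromSpec]
  show f (pullback.fst f ((mkChart f hU s).over C).hom z) ∈ U
  rw [← Scheme.Hom.comp_apply, pullback.condition, Scheme.Hom.comp_apply]
  change _ ∈ (U : Set S)
  rw [← hU.range_fromSpec]
  exact Set.mem_range_self _

theorem comap_inj_of_isIso {Y Y' : Scheme.{u}} (g : Y' ⟶ Y) [IsIso g] {I I' : Y.IdealSheafData}
    (h : I.comap g = I'.comap g) : I = I' := by
  have := congrArg (fun K : Y'.IdealSheafData => K.comap (inv g)) h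
  simpa only [← Scheme.IdealSheafData.comap_comp, IsIso.inv_hom_id, Scheme.IdealSheafData.comap_id] using this

theorem pull_inj_of_isIso {T T' : Over S} (g : T' ⟶ T) [IsIso g.left] {I I' : (PicF.XT f T).IdealSheafData}
    (h : HilbD.pull f g I = HilbD.pull f g I') : I = I' := by
  haveI : IsIso (PicF.XTmap f g) := (isPullback_XTmap f g).isIso_fst_of_isIso
  rw [pull_eq, pull_eq] at h
  exact comap_inj_of_isIso _ h

theorem famIdeal_eq_iff (c : Chart f d) (t : Fin d → c.B) {A : Type u} [CommRing A] [Algebra c.R A]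
    (x : Coord c.R c.B c.s A) (y : Coord c.R c.B t A) :
    c.famIdeal x = (c.setS t).famIdeal y ↔ x.ideal = y.ideal := by
  constructor
  · intro h
    refine idealOf_injective ?_
    rw [← c.famIdeal_comap x, h]
    exact (c.setS t).famIdeal_comap y
  · intro h
    show (idealOf x.ideal).map _ = (idealOf y.ideal).map _
    rw [h]
    rfl

variable {P : Scheme.{u}} {p : P ⟶ S}
  {chart : ∀ (U : S.Opens) (hU : IsAffineOpen U), (((p ⁻¹ᵁ U : P.Opens) : Scheme.{u}) ≅ Proj ((grAlg f d).deg U hU))}
  {U : S.Opens} {hU : IsAffineOpen U} {C : Type u} [CommRing C] {a : Spec (CommRingCat.of C) ⟶ S}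

theorem pt_eq_of_ideal {σ : Γ(S, U) →+* C} (hσ : Spec.map (CommRingCat.ofHom σ) ≫ hU.fromSpec = a)
    {s t : Fin d → Γ(X, f ⁻¹ᵁ U)}
    (x : letI := σ.toAlgebra; Coord Γ(S, U) Γ(X, f ⁻¹ᵁ U) s C)
    (y : letI := σ.toAlgebra; Coord Γ(S, U) Γ(X, f ⁻¹ᵁ U) t C)
    (h : letI := σ.toAlgebra; y.ideal = x.ideal) :
    (Pres.mk σ hσ s x).pt chart = (Pres.mk σ hσ t y).pt chart := by
  letI := σ.toAlgebra
  let π₁ : Pres f hU a d := Pres.mk σ hσ s x
  let π₂ : Pres f hU a d := Pres.mk σ hσ t y
  refine congrArg (· ≫ RelProj.emb p chart U hU) ?_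
  have ht : π₁.F π₂.tEl = lam x t := by
    show evCoord x (ηg f U hU ((ηg f U hU).symm _)) = _
    rw [RingEquiv.apply_symm_apply, evCoord_el]
  refine projPt_eq_of_scale π₁.tEl_mem π₂.tEl_mem π₁.F_tEl π₂.F_tEl ?_ fun n z hz => ?_
  · rw [ht]; exact isUnit_lam x y h
  · rw [ht]; exact evCoord_change x y h ((mem_grAlg_deg f).1 hz)

/-- Over one affine open, the point determines the family and conversely. -/
theorem pt_eq_iff_same (π₁ π₂ : Pres f hU a d) : π₁.pt chart = π₂.pt chart ↔ π₁.fam = π₂.fam := by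
  obtain ⟨σ, hσ, s, x⟩ := π₁
  obtain ⟨σ', hσ', t, y⟩ := π₂
  obtain rfl : σ = σ' := by
    have := Spec.map_injective ((cancel_mono hU.fromSpec).1 (hσ.trans hσ'.symm))
    exact congrArg CommRingCat.Hom.hom this
  letI := σ.toAlgebra
  haveI := isIso_μ (f := f) hU s C
  haveI : IsIso ((Pres.mk σ hσ s x).toOver).left := inferInstanceAs (IsIso (𝟙 (Spec (CommRingCat.of C))))
  have hfam : (Pres.mk σ hσ s x).fam = (Pres.mk σ hσ' t y).fam ↔ x.ideal = y.ideal :=
    Iff.trans ⟨fun h => pull_inj_of_isIso (Pres.mk σ hσ s x).toOver h,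
        fun h => congrArg (HilbD.pull f (Pres.mk σ hσ s x).toOver) h⟩
      (famIdeal_eq_iff (mkChart f hU s) t x y)
  rw [hfam]
  constructor
  · intro h
    have h1 : projPt (Pres.mk σ hσ s x).F (Pres.mk σ hσ s x).tEl_mem (Pres.mk σ hσ s x).F_tEl =
        projPt (Pres.mk σ hσ' t y).F (Pres.mk σ hσ' t y).tEl_mem (Pres.mk σ hσ' t y).F_tEl :=
      (cancel_mono (RelProj.emb p chart U hU)).1 h
    have hu : IsUnit (lam x t) := by
      have hu' := isUnit_of_mem (Pres.mk σ hσ s x).F (Pres.mk σ hσ s x).tEl_mem (Pres.mk σ hσ' t y).tEl_mem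
        (Pres.mk σ hσ s x).F_tEl fun q => by
          rw [h1, projPt, Scheme.Hom.comp_apply, ← Proj.opensRange_awayι _ _ (Pres.mk σ hσ' t y).tEl_mem one_pos]
          exact ⟨_, rfl⟩
      have e : (Pres.mk σ hσ s x).F (Pres.mk σ hσ' t y).tEl = lam x t := by
        show evCoord x (ηg f U hU ((ηg f U hU).symm _)) = _
        rw [RingEquiv.apply_symm_apply, evCoord_el]
      rwa [e] at hu'
    obtain ⟨y', hy'⟩ := exists_change x hu
    have h2 := h1.symm.trans ((cancel_mono (RelProj.emb p chart U hU)).1 (pt_eq_of_ideal (chart := chart) hσ x y' hy'))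
    have h3 := congrArg CommRingCat.Hom.hom
      (Spec.map_injective ((cancel_mono (Proj.awayι _ _ (Pres.mk σ hσ' t y).tEl_mem one_pos)).1 h2))
    have h4 : y = y' := Coord.ext' fun b j => by
      have := RingHom.congr_fun h3 (HomogeneousLocalization.Away.mk _ (Pres.mk σ hσ' t y).tEl_mem 1
        ((ηg f U hU).symm (el (Function.update t j b)))
        (by
          show ηg f U hU ((ηg f U hU).symm _) ∈ deg _ _ d (1 • 1)
          rw [RingEquiv.apply_symm_apply, one_smul]
          exact el_mem_deg _))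
      have this := (evAway_mk _ _ (Pres.mk σ hσ' t y).F_tEl _ _ _).symm.trans
        (this.trans (evAway_mk _ _ (Pres.mk σ hσ t y').F_tEl _ _ _))
      change evCoord y (ηg f U hU ((ηg f U hU).symm _)) = evCoord y' (ηg f U hU ((ηg f U hU).symm _)) at this
      rw [RingEquiv.apply_symm_apply, evCoord_el, evCoord_el, lam_update, lam_update] at this
      exact this
    rw [h4, hy']
  · intro h
    exact pt_eq_of_ideal hσ x y h.symm

end Groth.L11.HilbProj
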