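import Groth.Agent.L11.HilbProj.Points

/-!
# Affine points over smaller affine opens; points and families determine each other
-/

set_option autoImplicit false
set_option linter.style.haveILetI false
set_option linter.unusedSectionVars false
set_option backward.isDefEq.respectTransparency false
set_option backward.isDefEq.respectTransparency.types false

noncomputable section

universe u

open CategoryTheory CategoryTheory.Limits AlgebraicGeometry TopologicalSpace Opposite
open Groth.L02.Hilb Groth.L13.BU Groth.L25.HomScheme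
open Groth.L18.FinProj (ρ ρ_app)
open scoped TensorProduct

namespace Groth.L11.HilbProj

attribute [local instance] algB

variable {X S : Scheme.{u}} {f : X ⟶ S} [IsFinite f] {d : ℕ}

/-- The comparison of the two affine coordinate rings of `X ×_S Spec C`. -/
theorem famIdeal_restrict {U W : S.Opens} (hU : IsAffineOpen U) (hW : IsAffineOpen W) (h : W ≤ U)
    {C : Type u} [CommRing C] [Algebra Γ(S, U) C] [Algebra Γ(S, W) C]
    (htower : letI := algR h; IsScalarTower Γ(S, U) Γ(S, W) C) {s : Fin d → Γ(X, f ⁻¹ᵁ U)}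
    (y : Coord Γ(S, W) Γ(X, f ⁻¹ᵁ W) (ρ f h ∘ s) C)
    (e : (mkChart f hW (ρ f h ∘ s)).over C ⟶ (mkChart f hU s).over C) (he : @Eq (Spec (CommRingCat.of C) ⟶ Spec (CommRingCat.of C)) e.left (𝟙 (Spec (CommRingCat.of C)))) :
    HilbD.pull f e ((mkChart f hU s).famIdeal
        (letI := algR h; haveI := htower; restrictCoord (ρ f h) (ρ_algebraMap f h) y)) =
      (mkChart f hW (ρ f h ∘ s)).famIdeal y := by
  letI := algR h
  haveI := htower
  let x := restrictCoord (ρ f h) (ρ_algebraMap f h) y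
  haveI := isIso_μ (f := f) hW (ρ f h ∘ s) C
  refine comap_inj_of_isIso ((mkChart f hW (ρ f h ∘ s)).μ C) ?_
  rw [pull_eq, ← Scheme.IdealSheafData.comap_comp]
  refine Eq.trans ?_ ((mkChart f hW (ρ f h ∘ s)).famIdeal_comap y).symm
  let iR : Γ(X, f ⁻¹ᵁ U) →ₐ[Γ(S, U)] C ⊗[Γ(S, W)] Γ(X, f ⁻¹ᵁ W) :=
    { (Algebra.TensorProduct.includeRight : Γ(X, f ⁻¹ᵁ W) →ₐ[Γ(S, W)] C ⊗[Γ(S, W)] Γ(X, f ⁻¹ᵁ W)).toRingHom.comp (ρ f h) with
      commutes' := fun r => by
        show (Algebra.TensorProduct.includeRight : Γ(X, f ⁻¹ᵁ W) →ₐ[Γ(S, W)] C ⊗[Γ(S, W)] Γ(X, f ⁻¹ᵁ W))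
          (ρ f h (algebraMap _ _ r)) = _
        rw [ρ_algebraMap, AlgHom.commutes, IsScalarTower.algebraMap_apply Γ(S, U) C (C ⊗[Γ(S, W)] Γ(X, f ⁻¹ᵁ W)),
          IsScalarTower.algebraMap_apply Γ(S, W) C (C ⊗[Γ(S, W)] Γ(X, f ⁻¹ᵁ W)),
          IsScalarTower.algebraMap_apply Γ(S, U) Γ(S, W) C] }
  let ψ : C ⊗[Γ(S, U)] Γ(X, f ⁻¹ᵁ U) →ₐ[C] C ⊗[Γ(S, W)] Γ(X, f ⁻¹ᵁ W) :=
    Algebra.TensorProduct.lift (Algebra.ofId C _) iR (fun _ _ => Commute.all _ _)
  have hψ : ∀ (c : C) b, ψ (c ⊗ₜ b) = c ⊗ₜ ρ f h b := fun c b => by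
    rw [Algebra.TensorProduct.lift_tmul]
    show algebraMap C (C ⊗[Γ(S, W)] Γ(X, f ⁻¹ᵁ W)) c * ((1 : C) ⊗ₜ ρ f h b) = _
    rw [Algebra.TensorProduct.algebraMap_apply, Algebra.TensorProduct.tmul_mul_tmul, mul_one, one_mul]
    rfl
  have hsq : Spec.map (CommRingCat.ofHom ψ.toRingHom) ≫ (mkChart f hU s).μ C =
      (mkChart f hW (ρ f h ∘ s)).μ C ≫ PicF.XTmap f e := by
    apply pullback.hom_ext
    · rw [Category.assoc, Category.assoc, Chart.μ_fst, XTmap_fst, Chart.μ_fst, Chart.inclB, Chart.inclB,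
        ← Spec.map_comp_assoc]
      have h1 : CommRingCat.ofHom (Algebra.TensorProduct.includeRight :
            Γ(X, f ⁻¹ᵁ U) →ₐ[Γ(S, U)] C ⊗[Γ(S, U)] Γ(X, f ⁻¹ᵁ U)).toRingHom ≫ CommRingCat.ofHom ψ.toRingHom =
          CommRingCat.ofHom (ρ f h) ≫ CommRingCat.ofHom (Algebra.TensorProduct.includeRight :
            Γ(X, f ⁻¹ᵁ W) →ₐ[Γ(S, W)] C ⊗[Γ(S, W)] Γ(X, f ⁻¹ᵁ W)).toRingHom :=
        CommRingCat.hom_ext (RingHom.ext fun b => hψ 1 b)
      refine (congrArg (fun g => Spec.map g ≫ (hU.preimage f).fromSpec) h1).trans ?_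
      rw [Spec.map_comp, Category.assoc]
      exact congrArg (Spec.map _ ≫ ·)
        ((hU.preimage f).map_fromSpec (hW.preimage f) (homOfLE (f.preimage_mono h)).op)
    · rw [Category.assoc, Category.assoc, Chart.μ_proj, XTmap_snd]
      refine Eq.trans (b := ((mkChart f hW (ρ f h ∘ s)).μ C ≫ pullback.snd f _) ≫ 𝟙 (Spec (CommRingCat.of C))) ?_
        ((congrArg (_ ≫ ·) he.symm).trans (Category.assoc _ _ _))
      erw [Category.comp_id]
      rw [Chart.μ_proj, Chart.inclA,
        Chart.inclA, ← Spec.map_comp]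
      exact congrArg Spec.map (CommRingCat.hom_ext (RingHom.ext fun c => ψ.commutes c))
  rw [← hsq, Scheme.IdealSheafData.comap_comp, Chart.famIdeal_comap, idealOf_comap]
  refine congrArg idealOf (le_antisymm ?_ ?_)
  · rw [Coord.ideal, Ideal.map_span, Ideal.span_le]
    rintro _ ⟨_, ⟨b, rfl⟩, rfl⟩
    refine Ideal.subset_span ⟨ρ f h b, ?_⟩
    show _ = ψ _
    simp only [map_sub, hψ, Coord.sec, map_sum]
    rfl
  · rw [Coord.ideal, Ideal.span_le]
    rintro _ ⟨b', rfl⟩
    have hb : b' ∈ Submodule.span Γ(S, W) (Set.range (ρ f h)) := by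
      rw [span_ρ_eq_top f hU hW h]; trivial
    show _ ∈ Ideal.map ψ.toRingHom x.ideal
    induction hb using Submodule.span_induction with
    | mem z hz =>
      obtain ⟨b, rfl⟩ := hz
      have := Ideal.mem_map_of_mem ψ.toRingHom (Ideal.subset_span (s := Set.range fun b => (1 : C) ⊗ₜ[Γ(S, U)] b -
        Coord.sec s (x.c b)) ⟨b, rfl⟩)
      change ψ _ ∈ _ at this
      simp only [map_sub, hψ, Coord.sec, map_sum] at this
      exact this
    | zero => simp [Coord.sec]
    | add z w _ _ hz hw =>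
      have := Ideal.add_mem _ hz hw
      simp only [map_add, TensorProduct.tmul_add, Coord.sec, Pi.add_apply, TensorProduct.add_tmul,
        Finset.sum_add_distrib] at this ⊢
      convert this using 1
      abel
    | smul r z _ hz =>
      have := Ideal.mul_mem_left _ (algebraMap C (C ⊗[Γ(S, W)] Γ(X, f ⁻¹ᵁ W)) (algebraMap Γ(S, W) C r)) hz
      simp only [map_smul, Coord.sec, Pi.smul_apply, TensorProduct.tmul_smul, mul_sub, Finset.mul_sum,
        Algebra.TensorProduct.algebraMap_apply, Algebra.TensorProduct.tmul_mul_tmul, one_mul, mul_one,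
        Algebra.algebraMap_self, RingHom.id_apply] at this ⊢
      simp only [Algebra.smul_def (A := C), TensorProduct.smul_tmul', mul_one] at this ⊢
      exact this

variable {P : Scheme.{u}} {p : P ⟶ S}
  {chart : ∀ (U : S.Opens) (hU : IsAffineOpen U), (((p ⁻¹ᵁ U : P.Opens) : Scheme.{u}) ≅ Proj ((grAlg f d).deg U hU))}
  (hP : RelProj.IsRelProj (grAlg f d) p chart)
  {C : Type u} [CommRing C] {a : Spec (CommRingCat.of C) ⟶ S}

include hP in
/-- A point over `U` landing in a basic open is a point over the basic open. -/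
theorem exists_restrict {U : S.Opens} {hU : IsAffineOpen U} (π : Pres f hU a d) (r : Γ(S, U))
    (hrange : Set.range a ⊆ (S.basicOpen r : Set S)) :
    ∃ π' : Pres f (hU.basicOpen r) a d, π'.pt chart = π.pt chart ∧ π'.fam = π.fam := by
  obtain ⟨σ, hσ, s, x⟩ := π
  letI := σ.toAlgebra
  have hW := hU.basicOpen r
  let l := IsOpenImmersion.lift hW.fromSpec a (by rw [hW.range_fromSpec]; exact hrange)
  let σW : Γ(S, S.basicOpen r) →+* C := (Spec.preimage l).hom
  have hσW : Spec.map (CommRingCat.ofHom σW) ≫ hW.fromSpec = a := by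
    show Spec.map (Spec.preimage l) ≫ _ = a
    rw [Spec.map_preimage, IsOpenImmersion.lift_fac]
  letI := σW.toAlgebra
  letI := algR (S.basicOpen_le r)
  haveI htower : IsScalarTower Γ(S, U) Γ(S, S.basicOpen r) C := by
    refine IsScalarTower.of_algebraMap_eq fun z => ?_
    have h1 : Spec.map (CommRingCat.ofHom σ) ≫ hU.fromSpec =
        Spec.map (CommRingCat.ofHom (σW.comp (algebraMap Γ(S, U) Γ(S, S.basicOpen r)))) ≫ hU.fromSpec := by
      rw [hσ, CommRingCat.ofHom_comp, Spec.map_comp, Category.assoc]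
      show a = Spec.map _ ≫ Spec.map (S.presheaf.map (homOfLE (S.basicOpen_le r)).op) ≫ _
      rw [hU.map_fromSpec hW, hσW]
    exact RingHom.congr_fun (congrArg CommRingCat.Hom.hom (Spec.map_injective ((cancel_mono hU.fromSpec).1 h1))) z
  have hr : IsUnit (algebraMap Γ(S, U) C r) := by
    rw [IsScalarTower.algebraMap_apply Γ(S, U) Γ(S, S.basicOpen r) C]
    haveI := hU.isLocalization_basicOpen r
    exact (IsLocalization.Away.algebraMap_isUnit r).map _
  haveI := module_finite f hU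
  obtain ⟨y, hy⟩ := exists_extendCoord (ρ f (S.basicOpen_le r)) (ρ_algebraMap f (S.basicOpen_le r)) r hr
    (fun b' => exists_eq_pow_smul f hU rfl (S.basicOpen_le r) b')
    (fun b hb => exists_pow_smul_eq_zero f hU rfl (S.basicOpen_le r) hb) (hU.isLocalization_basicOpen r) x
  refine ⟨⟨σW, hσW, _, y⟩, ?_, ?_⟩
  · have hlam : ∀ b : Fin d → Γ(X, f ⁻¹ᵁ U), lam y (ρ f (S.basicOpen_le r) ∘ b) = lam x b := fun b =>
      congrArg Matrix.det (Matrix.ext fun i j => congrFun (hy (b i)) j)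
    show projPt _ _ _ ≫ RelProj.emb p chart (S.basicOpen r) (hU.basicOpen r) = _
    rw [← RelProj.map_res_emb hP U hU r, ← Category.assoc]
    refine congrArg (· ≫ RelProj.emb p chart U hU) ?_
    rw [projPt_map (ha := (Pres.mk σ hσ s x).tEl_mem) _ _ _ _ (by
      apply (ηg f (S.basicOpen r) hW).injective
      show ηg f _ hW (((grAlg f d).presheaf.map _).hom ((ηg f U hU).symm (el s))) =
        ηg f _ hW ((ηg f _ hW).symm (el (ρ f (S.basicOpen_le r) ∘ s)))
      rw [ηg_res f hU hW, RingEquiv.apply_symm_apply, RingEquiv.apply_symm_apply, grRes_el])]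
    congr 1
    refine RingHom.ext fun z => ?_
    show evCoord y (ηg f _ hW (((grAlg f d).presheaf.map _).hom z)) = evCoord x (ηg f U hU z)
    rw [ηg_res f hU hW]
    refine RingHom.congr_fun (f := (evCoord y).toRingHom.comp (grRes f d hU hW (S.basicOpen_le r)))
      (g := (evCoord x).toRingHom) (ringHom_ext (fun q => ?_) fun b => ?_) _
    · show evCoord y (grRes f d hU hW _ (algebraMap _ _ q)) = evCoord x (algebraMap _ _ q)
      rw [grRes_algebraMap, AlgHom.commutes, AlgHom.commutes]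
      exact (IsScalarTower.algebraMap_apply Γ(S, U) Γ(S, S.basicOpen r) C q).symm
    · show evCoord y (grRes f d hU hW _ (el b)) = evCoord x (el b)
      rw [grRes_el, evCoord_el, evCoord_el, hlam]
  · have hx : restrictCoord (ρ f (S.basicOpen_le r)) (ρ_algebraMap f (S.basicOpen_le r)) y = x :=
      Coord.ext' fun b j => congrFun (hy b) j
    let e : (mkChart f hW (ρ f (S.basicOpen_le r) ∘ s)).over C ⟶ (mkChart f hU s).over C :=
      Over.homMk (𝟙 (Spec (CommRingCat.of C))) ((Category.id_comp _).trans (hσ.trans hσW.symm))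
    show HilbD.pull f (Pres.mk σW hσW _ y).toOver _ = HilbD.pull f (Pres.mk σ hσ s x).toOver _
    rw [← famIdeal_restrict hU hW (S.basicOpen_le r) htower y e rfl, hx, ← pull_comp]
    refine congrArg (fun g => HilbD.pull f g _) (Over.OverMorphism.ext ?_)
    exact Category.comp_id (𝟙 (Spec (CommRingCat.of C)))

/-- A piece `Spec C_g` of an affine test scheme. -/
abbrev away (C : Type u) [CommRing C] (g : C) : Spec (CommRingCat.of (Localization.Away g)) ⟶ Spec (CommRingCat.of C) :=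
  Spec.map (CommRingCat.ofHom (algebraMap C (Localization.Away g)))

theorem range_away (g : C) : Set.range (away C g) = (PrimeSpectrum.basicOpen g : Set (PrimeSpectrum C)) :=
  PrimeSpectrum.localization_away_comap_range (Localization.Away g) g

include hP in
/-- Points and families determine each other. -/
theorem pt_eq_iff {U U' : S.Opens} {hU : IsAffineOpen U} {hU' : IsAffineOpen U'} (π₁ : Pres f hU a d)
    (π₂ : Pres f hU' a d) : π₁.pt chart = π₂.pt chart ↔ π₁.fam = π₂.fam := by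
  have key : ∀ q : PrimeSpectrum C, ∃ (g : C) (W : S.Opens) (hW : IsAffineOpen W)
      (π₁' π₂' : Pres f hW (away C g ≫ a) d), q ∈ PrimeSpectrum.basicOpen g ∧
      (π₁'.pt chart = away C g ≫ π₁.pt chart ∧
        π₁'.fam = HilbD.pull f (Over.homMk (away C g) rfl : Over.mk (away C g ≫ a) ⟶ Over.mk a) π₁.fam) ∧
      π₂'.pt chart = away C g ≫ π₂.pt chart ∧
        π₂'.fam = HilbD.pull f (Over.homMk (away C g) rfl : Over.mk (away C g ≫ a) ⟶ Over.mk a) π₂.fam := by
    intro q
    have h1 : a q ∈ U := by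
      rw [← π₁.hσ, Scheme.Hom.comp_apply]
      change _ ∈ (U : Set S)
      rw [← hU.range_fromSpec]; exact Set.mem_range_self _
    have h2 : a q ∈ U' := by
      rw [← π₂.hσ, Scheme.Hom.comp_apply]
      change _ ∈ (U' : Set S)
      rw [← hU'.range_fromSpec]; exact Set.mem_range_self _
    obtain ⟨r, r', e, hqr⟩ := exists_basicOpen_le_affine_inter hU hU' (a q) ⟨h1, h2⟩
    obtain ⟨_, ⟨_, ⟨g, rfl⟩, rfl⟩, hqg, hle⟩ := PrimeSpectrum.isBasis_basic_opens.exists_subset_of_mem_open
      (show q ∈ (a ⁻¹ᵁ S.basicOpen r).1 from hqr) (a ⁻¹ᵁ S.basicOpen r).2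
    have hrange : Set.range (away C g ≫ a) ⊆ (S.basicOpen r : Set S) := by
      rintro _ ⟨v, rfl⟩
      rw [Scheme.Hom.comp_apply]
      exact hle ((range_away g).le ⟨v, rfl⟩)
    obtain ⟨π₁', hp1, hf1⟩ := exists_restrict hP (π₁.push _ (rfl : away C g ≫ a = _)) r hrange
    obtain ⟨π₂', hp2, hf2⟩ := exists_restrict hP (π₂.push _ (rfl : away C g ≫ a = _)) r' (e ▸ hrange)
    obtain ⟨π₂'', hp2', hf2'⟩ : ∃ π : Pres f (hU.basicOpen r) (away C g ≫ a) d,
        π.pt chart = π₂'.pt chart ∧ π.fam = π₂'.fam := by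
      have gen : ∀ (W : S.Opens) (hW : IsAffineOpen W) (e : W = S.basicOpen r') (π : Pres f (hU'.basicOpen r') (away C g ≫ a) d),
          ∃ π' : Pres f hW (away C g ≫ a) d, π'.pt chart = π.pt chart ∧ π'.fam = π.fam := by
        intro W hW e π
        subst e
        exact ⟨π, rfl, rfl⟩
      exact gen _ _ e π₂'
    exact ⟨g, _, _, π₁', π₂'', hqg, ⟨hp1.trans (π₁.push_pt chart _ _), hf1.trans (π₁.push_fam _ _)⟩,
      (hp2'.trans hp2).trans (π₂.push_pt chart _ _), (hf2'.trans hf2).trans (π₂.push_fam _ _)⟩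
  choose g W hW π₁' π₂' hq h1 h2 using key
  let V : PrimeSpectrum C → Over S := fun q => Over.mk (away C (g q) ≫ a)
  let j : ∀ q, V q ⟶ Over.mk a := fun q => Over.homMk (away C (g q)) rfl
  have hfam : IsOpenFamily V j :=
    ⟨fun q => inferInstanceAs (IsOpenImmersion (away C (g q))), fun q => ⟨q, (range_away (g q)).ge (hq q)⟩⟩
  constructor
  · intro h
    haveI : ∀ q, IsOpenImmersion (PicF.XTmap f (j q)) := fun q =>
      MorphismProperty.of_isPullback (P := @IsOpenImmersion) (isPullback_XTmap f (j q)).flip (hfam.isOpenImmersion q)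
    refine ext_of_openCover (fun q => PicF.XTmap f (j q)) (covers_XT hfam) fun q => ?_
    rw [← pull_eq, ← pull_eq]
    exact ((h1 q).2.symm.trans ((pt_eq_iff_same (π₁' q) (π₂' q)).1
      (((h1 q).1.trans (congrArg (away C (g q) ≫ ·) h)).trans (h2 q).1.symm))).trans (h2 q).2
  · intro h
    refine Scheme.Cover.hom_ext hfam.cover _ _ fun q => ?_
    exact (h1 q).1.symm.trans (((pt_eq_iff_same (π₁' q) (π₂' q)).2
      (((h1 q).2.trans (congrArg (HilbD.pull f (j q)) h)).trans (h2 q).2.symm)).trans (h2 q).1)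

end Groth.L11.HilbProj
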